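/-
Unitary space of dimension three: frames (hyperbolic pair and an orthogonal vector), the unipotent stabiliser
elements of an isotropic point, and elements of a group acting on the plane of the frame.
-/
import Cfsg.Agent.Lib.MaxCl.UnitarySubfield
import Cfsg.Agent.Lib.MaxCl.UnitarySmall

set_option autoImplicit false

namespace Cfsg.Agent.MaxCl.SU3.Subfield

open Cfsg.Agent.MaxCl Cfsg.Agent.MaxCl.Unit
open scoped MatrixGroups Matrix

variable {ι : Type} [Fintype ι] [DecidableEq ι] {F : Type*} [Field F]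

/-- a hyperbolic pair and a vector orthogonal to it, in dimension three -/
structure Frame (f : (ι → F) → (ι → F) → F) (l l' m : ι → F) (d : F) : Prop where
  three : Fintype.card ι = 3
  ll : f l l = 0
  l'l' : f l' l' = 0
  ll' : f l l' = 1
  lm : f l m = 0
  l'm : f l' m = 0
  mm : f m m = d
  d0 : d ≠ 0

/-- parameters of a unipotent element -/
def Par (σ : F ≃+* F) (d s z : F) : Prop := z + σ z + s * σ s * d = 0

variable {σ : F ≃+* F} {f : (ι → F) → (ι → F) → F} (hU : Cfsg.Geo.IsUnitaryForm σ f)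
  {l l' m : ι → F} {d : F}

/-- the element fixing `l`, sending `l'` to `l' + s m + z l` -/
noncomputable def heis (l m : ι → F) (s z : F) : GL ι F :=
  ptv hU (s • m + z • l) l * ptv hU l (((-s) • m))

variable (hf : Frame f l l' m d)
include hU hf

theorem Frame.l'l : f l' l = 1 := by rw [← herm' hU l l', hf.ll', map_one]
theorem Frame.ml : f m l = 0 := eq_zero_symm hU hf.lm
theorem Frame.ml' : f m l' = 0 := eq_zero_symm hU hf.l'm
theorem Frame.σd : σ d = d := by rw [← hf.mm, herm' hU]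
theorem Frame.swap : Frame f l' l m d := ⟨hf.three, hf.l'l', hf.ll, hf.l'l hU, hf.l'm, hf.lm, hf.mm, hf.d0⟩

theorem Frame.l0 : l ≠ 0 := fun h => one_ne_zero (by rw [← hf.ll', h, zero_left hU])

theorem Frame.expand (x : ι → F) : x = f x l' • l + f x l • l' + (f x m / d) • m := by
  have hd := hf.d0
  have hli : LinearIndependent F ![l, l', m] := by
    rw [Fintype.linearIndependent_iff]
    intro g hg
    simp only [Fin.sum_univ_three, Matrix.cons_val_zero, Matrix.cons_val_one, Matrix.cons_val_two,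
      Matrix.head_cons, Matrix.tail_cons] at hg
    have e1 := congrArg (f · l') hg
    have e2 := congrArg (f · l) hg
    have e3 := congrArg (f · m) hg
    simp only [add_left hU, smul_left hU, zero_left hU, hf.ll, hf.l'l', hf.ll', hf.l'l hU, hf.lm, hf.l'm,
      hf.ml hU, hf.ml' hU, hf.mm, mul_zero, mul_one, add_zero, zero_add] at e1 e2 e3
    intro i
    fin_cases i
    · exact e1
    · exact e2
    · exact (mul_eq_zero.1 e3).resolve_right hd
  have hspan : Submodule.span F (Set.range ![l, l', m]) = ⊤ :=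
    hli.span_eq_top_of_card_eq_finrank (by rw [Module.finrank_fintype_fun_eq_card, hf.three, Fintype.card_fin])
  obtain ⟨c, hc⟩ := (Submodule.mem_span_range_iff_exists_fun F).1 (hspan ▸ Submodule.mem_top : x ∈ _)
  simp only [Fin.sum_univ_three, Matrix.cons_val_zero, Matrix.cons_val_one, Matrix.cons_val_two,
    Matrix.head_cons, Matrix.tail_cons] at hc
  subst hc
  simp only [add_left hU, smul_left hU, hf.ll, hf.l'l', hf.ll', hf.l'l hU, hf.lm, hf.l'm,
    hf.ml hU, hf.ml' hU, hf.mm, mul_zero, mul_one, add_zero, zero_add, mul_div_cancel_right₀ _ hd]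

/-- two maps agreeing on the frame are equal -/
theorem Frame.gl_ext {g h : GL ι F} (h1 : act g l = act h l) (h2 : act g l' = act h l') (h3 : act g m = act h m) :
    g = h := by
  refine Cfsg.Agent.MaxCl.gl_ext fun x => ?_
  rw [hf.expand hU x]
  simp only [map_add, map_smul, h1, h2, h3]

theorem heis_aux (s z : F) : f (s • m + z • l) l = 0 ∧ f l (((-s) • m)) = 0 := by
  refine ⟨?_, ?_⟩
  · rw [add_left hU, smul_left hU, smul_left hU, hf.ml hU, hf.ll]; ring
  · rw [smul_right hU, hf.lm]; ring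

theorem act_heis (s z : F) (x : ι → F) :
    act (heis hU l m s z) x = x + f x l • (s • m + z • l) - (σ s * f x m) • l := by
  obtain ⟨h1, h2⟩ := heis_aux hU hf s z
  rw [heis, act_mul, act_ptv hU h2, act_ptv hU h1, add_left hU, smul_left hU, hf.ll,
    smul_right hU, map_neg]
  module

theorem heis_l (s z : F) : act (heis hU l m s z) l = l := by
  rw [act_heis hU hf, hf.ll, hf.lm]; module

theorem heis_l' (s z : F) : act (heis hU l m s z) l' = l' + s • m + z • l := by
  rw [act_heis hU hf, hf.l'l hU, hf.l'm]; module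

theorem heis_m (s z : F) : act (heis hU l m s z) m = m - (d * σ s) • l := by
  rw [act_heis hU hf, hf.ml hU, hf.mm]; module

theorem heis_det (s z : F) : heis hU l m s z ∈ Cfsg.Geo.specialLinear ι F :=
  mul_mem (det_ptv hU (heis_aux hU hf s z).1) (det_ptv hU (heis_aux hU hf s z).2)

theorem heis_mem {s z : F} (hp : Par σ d s z) : heis hU l m s z ∈ uiso f := by
  refine mem_uiso.2 fun x y => ?_
  rw [act_heis hU hf, act_heis hU hf]
  simp only [add_left hU, sub_left hU, smul_left hU, add_right hU, sub_right hU, smul_right hU, map_mul,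
    hU.involutive, hf.ll, hf.lm, hf.ml hU, hf.mm, herm' hU]
  rw [show f l y = σ (f y l) from (herm' hU y l).symm, show f m y = σ (f y m) from (herm' hU y m).symm]
  unfold Par at hp
  linear_combination (f x l * σ (f y l)) * hp

theorem heis_mul (s z s' z' : F) :
    heis hU l m s z * heis hU l m s' z' = heis hU l m (s + s') (z + z' - d * σ s * s') := by
  refine hf.gl_ext hU ?_ ?_ ?_
  · rw [act_mul, heis_l hU hf, heis_l hU hf, heis_l hU hf]
  · rw [act_mul, heis_l' hU hf, heis_l' hU hf, map_add, map_add, map_smul, map_smul, heis_l' hU hf,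
      heis_m hU hf, heis_l hU hf]
    module
  · rw [act_mul, heis_m hU hf, map_sub, map_smul, heis_m hU hf, heis_l hU hf, heis_m hU hf, map_add]
    module

theorem heis_eq_utv (z : F) : heis hU l m 0 z = utv hU l z := by
  refine Cfsg.Agent.MaxCl.gl_ext fun x => ?_
  rw [act_heis hU hf, act_utv hU hf.ll, map_zero]
  module

/-- the commutator of two unipotent elements -/
theorem heis_comm (s z s' z' : F) :
    heis hU l m s z * heis hU l m s' z' =
      heis hU l m s' z' * heis hU l m s z * utv hU l (d * (s * σ s' - s' * σ s)) := by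
  rw [← heis_eq_utv hU hf, heis_mul hU hf, heis_mul hU hf, heis_mul hU hf, map_add]
  congr 1 <;> ring

/-- conjugation by an element fixing the point `l` and the line `m` modulo it -/
theorem conj_heis {g : GL ι F} (hg : g ∈ uiso f) {μ μ' b : F} (hgl : act g l = μ • l)
    (hgm : act g m = μ' • m + b • l) {s z : F} (hp : Par σ d s z) :
    ∃ z', Par σ d (σ (μ / μ') * s) z' ∧
      g * heis hU l m s z * g⁻¹ = heis hU l m (σ (μ / μ') * s) z' := by
  have hX := heis_mem hU hf hp
  obtain ⟨h, hh⟩ : ∃ h, h = g * heis hU l m s z * g⁻¹ := ⟨_, rfl⟩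
  have hhf : h ∈ uiso f := hh ▸ mul_mem (mul_mem hg hX) (inv_mem hg)
  have hμ : μ ≠ 0 := by
    rintro rfl
    exact hf.l0 hU (act_injective g (by rw [hgl, zero_smul, map_zero]))
  have hμ' : μ' ≠ 0 := by
    rintro rfl
    have := mem_uiso.1 hg m m
    rw [hgm, zero_smul, zero_add, smul_left hU, smul_right hU, hf.ll, hf.mm] at this
    exact hf.d0 (by rw [← this]; ring)
  have hhl : act h l = l := by
    have e : act g⁻¹ l = μ⁻¹ • l := act_injective g (by rw [act_act_inv, map_smul, hgl, inv_smul_smul₀ hμ])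
    rw [hh, act_mul, act_mul, e, map_smul, heis_l hU hf, map_smul, hgl, inv_smul_smul₀ hμ]
  have hhm : act h m = m - (d * σ s * (μ / μ')) • l := by
    have e : act g⁻¹ m = μ'⁻¹ • m + (-(b / (μ * μ'))) • l := act_injective g (by
      rw [act_act_inv, map_add, map_smul, map_smul, hgm, hgl, smul_add, inv_smul_smul₀ hμ', smul_smul,
        smul_smul]
      rw [show -(b / (μ * μ')) * μ = -(μ'⁻¹ * b) by field_simp]
      module)
    rw [hh, act_mul, act_mul, e, map_add, map_smul, map_smul, heis_m hU hf, heis_l hU hf, map_add, map_smul,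
      map_smul, map_sub, map_smul, hgm, hgl]
    simp only [smul_add, smul_sub, smul_smul, inv_mul_cancel₀ hμ', one_smul]
    rw [show -(b / (μ * μ')) * μ = -(μ'⁻¹ * b) by field_simp, div_eq_mul_inv]
    module
  have e0 : f (act h l') l = 1 := by
    conv_lhs => rw [← hhl, mem_uiso.1 hhf, hf.l'l hU]
  have e1 := hf.expand hU (act h l')
  rw [e0, one_smul] at e1
  obtain ⟨S, hS⟩ : ∃ S, S = f (act h l') m / d := ⟨_, rfl⟩
  rw [← hS] at e1
  have hSv : S = σ (μ / μ') * s := by
    have h0 := mem_uiso.1 hhf l' m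
    rw [hhm, sub_right hU, smul_right hU, e0, hf.l'm, map_mul, map_mul, hf.σd hU, hU.involutive] at h0
    rw [hS, div_eq_iff hf.d0]
    linear_combination h0
  refine ⟨f (act h l') l', ?_, ?_⟩
  · have h0 := mem_uiso.1 hhf l' l'
    rw [hf.l'l'] at h0
    generalize f (act h l') l' = T at h0 e1 ⊢
    rw [e1] at h0
    rw [← hSv]
    unfold Par
    simp only [add_left hU, add_right hU, smul_left hU, smul_right hU, hf.ll, hf.ll', hf.l'l hU, hf.l'l',
      hf.lm, hf.l'm, hf.ml hU, hf.ml' hU, hf.mm] at h0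
    linear_combination h0
  · rw [← hh, ← hSv]
    refine hf.gl_ext hU ?_ ?_ ?_
    · rw [hhl, heis_l hU hf]
    · rw [heis_l' hU hf]; conv_lhs => rw [e1]
      module
    · rw [hhm, heis_m hU hf, hSv, map_mul, hU.involutive, mul_assoc d, mul_comm (σ s)]

variable {M : Subgroup (GL ι F)} (hM : M ≤ uiso f)
include hM

/-- the elements acting on the plane of the frame, and their images in `SL(2, F)` -/
theorem exists_plane : ∃ (K : Subgroup (GL ι F)) (ρ : K →* SL(2, F)),
    (∀ c : F, c + σ c = 0 → utv hU l c ∈ M → SLTwo.ux c ∈ ρ.range) ∧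
    (∀ c : F, c + σ c = 0 → utv hU l' c ∈ M → ∃ g ∈ ρ.range, (g : SL(2, F)) 1 0 = c) ∧
    (∀ k : K, k.1 ∈ M ∧ act k.1 m = m ∧
      act k.1 l = (ρ k) 0 0 • l + (ρ k) 1 0 • l' ∧ act k.1 l' = (ρ k) 0 1 • l + (ρ k) 1 1 • l') := by
  let β : (ι → F) →ₗ[F] F := flinU hU l'
  let α : (ι → F) →ₗ[F] F := flinU hU l
  have hβ : ∀ x, β x = f x l' := fun _ => rfl
  have hα : ∀ x, α x = f x l := fun _ => rfl
  have hh : β l = 1 ∧ β l' = 0 ∧ β m = 0 ∧ α l = 0 ∧ α l' = 1 ∧ α m = 0 :=
    ⟨hf.ll', hf.l'l', hf.ml' hU, hf.ll, hf.l'l hU, hf.ml hU⟩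
  refine ⟨USub.planeGroupU M l l' m β α hh, USub.planeHomU, fun c hc hm => ?_, fun c hc hm => ?_, fun k => ?_⟩
  · refine ⟨⟨utv hU l c, hm, ?_, fun x => ⟨0, ?_⟩, ?_⟩, ?_⟩
    · rw [act_utv hU hf.ll, hf.ml hU]; simp
    · rw [act_utv hU hf.ll, add_sub_cancel_left, map_smul, map_smul, hh.1, hh.2.2.2.1]; simp
    · rw [act_utv hU hf.ll, act_utv hU hf.ll]
      simp [hh.1, hh.2.1, hh.2.2.2.1, hh.2.2.2.2.1, hf.ll, hf.l'l hU]
    · apply SLTwo.ext2 <;> simp [USub.planeHomU_val, act_utv hU hf.ll, hh.1, hh.2.1, hh.2.2.2.1,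
        hh.2.2.2.2.1, hf.ll, hf.l'l hU]
  · refine ⟨_, ⟨⟨utv hU l' c, hm, ?_, fun x => ⟨0, ?_⟩, ?_⟩, rfl⟩, ?_⟩
    · rw [act_utv hU hf.l'l', hf.ml' hU]; simp
    · rw [act_utv hU hf.l'l', add_sub_cancel_left, map_smul, map_smul, hh.2.1, hh.2.2.2.2.1]; simp
    · rw [act_utv hU hf.l'l', act_utv hU hf.l'l']
      simp [hh.1, hh.2.1, hh.2.2.2.1, hh.2.2.2.2.1, hf.l'l', hf.ll']
    · simp [USub.planeHomU_val, act_utv hU hf.l'l', hh.1, hh.2.2.2.1, hh.2.2.2.2.1, hf.ll']
  · obtain ⟨hkM, hkm, -, -⟩ := k.2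
    have hzero : ∀ x, f x m = 0 → f (act k.1 x) m = 0 := fun x hx => by
      have := mem_uiso.1 (hM hkM) x m
      rwa [hkm, hx] at this
    refine ⟨hkM, hkm, ?_, ?_⟩
    · conv_lhs => rw [hf.expand hU (act k.1 l), hzero l hf.lm]
      simp [USub.planeHomU_val, hβ, hα]
    · conv_lhs => rw [hf.expand hU (act k.1 l'), hzero l' hf.l'm]
      simp [USub.planeHomU_val, hβ, hα]

end Cfsg.Agent.MaxCl.SU3.Subfield
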