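/-
Rational structure of odd degree on a unitary space of dimension three: without a seed (a rational isotropic
point with an irrational coefficient) the transvections of an overgroup sit at rational points.
-/
import Cfsg.Agent.Lib.MaxCl.SU3.Subfield.Heis

set_option autoImplicit false

namespace Cfsg.Agent.MaxCl.SU3.Subfield

open Cfsg.Agent.MaxCl Cfsg.Agent.MaxCl.Unit
open scoped MatrixGroups Matrix

variable {ι : Type} [Fintype ι] [DecidableEq ι] {F : Type*} [Field F]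

/-- the standing hypotheses -/
structure Ctx (σ : F ≃+* F) (f : (ι → F) → (ι → F) → F) (F₀ : Subfield F) (P : GL ι F) (r : ℕ)
    (M : Subgroup (GL ι F)) : Prop where
  unit : Cfsg.Geo.IsUnitaryForm σ f
  three : Fintype.card ι = 3
  rat : ∀ x ∈ ratVec F₀ P, ∀ y ∈ ratVec F₀ P, f x y ∈ F₀
  stable : ∀ a ∈ F₀, σ a ∈ F₀
  moved : ∃ θ ∈ F₀, σ θ ≠ θ
  prime : r.Prime
  odd : Odd r
  card : Nat.card F = Nat.card F₀ ^ r
  iso : M ≤ uiso f
  rat_mem : ∀ g ∈ uiso f, g ∈ Cfsg.Geo.specialLinear ι F → (∀ x ∈ ratVec F₀ P, act g x ∈ ratVec F₀ P) → g ∈ M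

/-- a rational frame -/
structure RFrame (f : (ι → F) → (ι → F) → F) (F₀ : Subfield F) (P : GL ι F) (l l' m : ι → F) (d : F) :
    Prop where
  frame : Frame f l l' m d
  rl : l ∈ ratVec F₀ P
  rl' : l' ∈ ratVec F₀ P
  rm : m ∈ ratVec F₀ P

variable {σ : F ≃+* F} {f : (ι → F) → (ι → F) → F} {F₀ : Subfield F} {P : GL ι F} {r : ℕ}
  {M : Subgroup (GL ι F)} {l l' m : ι → F} {d : F}

/-- no rational isotropic point carries an irrational coefficient -/
def NoSeed (hU : Cfsg.Geo.IsUnitaryForm σ f) (F₀ : Subfield F) (P : GL ι F) (M : Subgroup (GL ι F)) : Prop :=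
  ∀ l l' m : ι → F, ∀ d : F, RFrame f F₀ P l l' m d → ∀ c, c + σ c = 0 → utv hU l c ∈ M → c ∈ F₀

/-- a multiple of a rational point with a rational coefficient -/
def RatT (σ : F ≃+* F) (F₀ : Subfield F) (P : GL ι F) (v : ι → F) (c : F) : Prop :=
  ∃ k : F, ∃ v₀ ∈ ratVec F₀ P, v = k • v₀ ∧ c * k * σ k ∈ F₀

variable (C : Ctx σ f F₀ P r M)
include C

theorem trace_one : ∃ e ∈ F₀, e + σ e = 1 := by
  obtain ⟨θ, hθ, hne⟩ := C.moved
  obtain ⟨z, hz, hz0⟩ : ∃ z ∈ F₀, z + σ z ≠ 0 := by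
    by_contra h; push Not at h
    have h1 := h 1 F₀.one_mem
    have h2 := h θ hθ
    rw [map_one] at h1
    exact hne (by linear_combination h2 - θ * h1)
  refine ⟨z / (z + σ z), F₀.div_mem hz (F₀.add_mem hz (C.stable z hz)), ?_⟩
  rw [map_div₀, map_add, C.unit.involutive, add_comm (σ z) z, ← add_div, div_self hz0]

theorem skew_rat : ∃ c ∈ F₀, c ≠ 0 ∧ c + σ c = 0 := by
  obtain ⟨θ, hθ, hne⟩ := C.moved
  exact ⟨θ - σ θ, F₀.sub_mem hθ (C.stable θ hθ), sub_ne_zero.2 (Ne.symm hne),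
    sub_skew θ C.unit.involutive⟩

theorem mem_of_two_traces {x y : F} (h : ∀ s ∈ F₀, s * x + σ s * y ∈ F₀) : x ∈ F₀ := by
  obtain ⟨θ, hθ, hne⟩ := C.moved
  have h1 := h 1 F₀.one_mem
  have h2 := h θ hθ
  rw [map_one, one_mul, one_mul] at h1
  have hd : (θ - σ θ) * x ∈ F₀ := by
    have := F₀.sub_mem h2 (F₀.mul_mem (C.stable θ hθ) h1)
    convert this using 1; ring
  have := F₀.mul_mem (F₀.inv_mem (F₀.sub_mem hθ (C.stable θ hθ))) hd
  rwa [← mul_assoc, inv_mul_cancel₀ (sub_ne_zero.2 (Ne.symm hne)), one_mul] at this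

theorem RFrame.swap (R : RFrame f F₀ P l l' m d) : RFrame f F₀ P l' l m d :=
  ⟨R.frame.swap C.unit, R.rl', R.rl, R.rm⟩

theorem RFrame.d_mem (R : RFrame f F₀ P l l' m d) : d ∈ F₀ := R.frame.mm ▸ C.rat _ R.rm _ R.rm

theorem exists_par (R : RFrame f F₀ P l l' m d) {s : F} (hs : s ∈ F₀) : ∃ z ∈ F₀, Par σ d s z := by
  obtain ⟨e, he, he1⟩ := trace_one C
  refine ⟨-(s * σ s * d * e), F₀.neg_mem (F₀.mul_mem (F₀.mul_mem (F₀.mul_mem hs (C.stable s hs))
    (R.d_mem C)) he), ?_⟩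
  unfold Par
  simp only [map_neg, map_mul, C.unit.involutive, R.frame.σd C.unit]
  linear_combination -(s * σ s * d) * he1

theorem heis_rat (R : RFrame f F₀ P l l' m d) {s z : F} (hs : s ∈ F₀) (hz : z ∈ F₀) (hp : Par σ d s z) :
    heis C.unit l m s z ∈ M := by
  refine C.rat_mem _ (heis_mem C.unit R.frame hp) (heis_det C.unit R.frame s z) fun x hx => ?_
  rw [act_heis C.unit R.frame]
  exact Submodule.sub_mem _ (Submodule.add_mem _ hx (ratVec_smul (C.rat _ hx _ R.rl)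
    (Submodule.add_mem _ (ratVec_smul hs R.rm) (ratVec_smul hz R.rl))))
    (ratVec_smul (F₀.mul_mem (C.stable s hs) (C.rat _ hx _ R.rm)) R.rl)

theorem utv_rat (R : RFrame f F₀ P l l' m d) {c : F} (hc : c ∈ F₀) (hcs : c + σ c = 0) :
    utv C.unit l c ∈ M := by
  rw [← heis_eq_utv C.unit R.frame]
  exact heis_rat C R F₀.zero_mem hc (by unfold Par; linear_combination hcs)

/-- commutators with rational elements -/
theorem utv_comm (R : RFrame f F₀ P l l' m d) {s z : F}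
    (hX : heis C.unit l m s z ∈ M) {t : F} (ht : t ∈ F₀) :
    utv C.unit l (d * (s * σ t - t * σ s)) ∈ M := by
  obtain ⟨z', hz', hp'⟩ := exists_par C R ht
  have hY := heis_rat C R ht hz' hp'
  have h := M.mul_mem hX hY
  rwa [heis_comm C.unit R.frame, M.mul_mem_cancel_left (M.mul_mem hY hX)] at h

theorem rat_of_comm {s : F} (h : ∀ t ∈ F₀, s * σ t - t * σ s ∈ F₀) : s ∈ F₀ := by
  refine mem_of_two_traces C (y := -σ s) fun t ht => ?_
  have := h (σ t) (C.stable t ht)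
  rw [C.unit.involutive] at this
  convert this using 1; ring

variable [Fintype F]

/-- the key step: the parameter is rational -/
theorem param_rat (hno : NoSeed C.unit F₀ P M)
    (h3 : (2 : F) ≠ 0 ∨ ∃ a ∈ F₀, σ a = a ∧ a ≠ 0 ∧ a ≠ 1)
    (R : RFrame f F₀ P l l' m d) {s z c : F} (hp : Par σ d s z) (hc : c + σ c = 0) (hc0 : c ≠ 0)
    (hM : utv C.unit (act (heis C.unit l m s z) l') c ∈ M) : s ∈ F₀ := by
  have hU := C.unit
  have hf := R.frame
  obtain ⟨X, hX⟩ : ∃ X, X = heis hU l m s z := ⟨_, rfl⟩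
  have hXf : X ∈ uiso f := hX ▸ heis_mem hU hf hp
  rw [← hX] at hM
  let M' : Subgroup (GL ι F) := M.comap (MulAut.conj X).toMonoidHom
  have hM' : ∀ {g}, g ∈ M' ↔ X * g * X⁻¹ ∈ M := Iff.rfl
  have hM'f : M' ≤ uiso f := fun g hg => by
    have := mul_mem (mul_mem (inv_mem hXf) (C.iso (hM'.1 hg))) hXf
    rwa [show X⁻¹ * (X * g * X⁻¹) * X = g by group] at this
  obtain ⟨c₀, hc₀, hc₀0, hc₀s⟩ := skew_rat C
  have hup : ∀ c' ∈ F₀, c' + σ c' = 0 → utv hU l c' ∈ M' := fun c' h h' => hM'.2 (by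
    rw [conj_utv hU hXf hf.ll, hX, heis_l hU hf]; exact utv_rat C R h h')
  have hlow : utv hU l' c ∈ M' := hM'.2 (by rw [conj_utv hU hXf hf.l'l']; exact hM)
  obtain ⟨K, ρ, hρu, hρl, hρk⟩ := exists_plane hU hf hM'f
  obtain ⟨g₀, hg₀, hg₀'⟩ := hρl c hc hlow
  have hux := hρu c₀ hc₀s (hup c₀ hc₀ hc₀s)
  -- an element of the plane group fixing the line `l` and scaling it by a non-trivial rational factor
  obtain ⟨k, μ, b, hkM, hkm, hkl, hkl', hμ0, hμF, hμs, hμ1⟩ : ∃ k, ∃ μ b : F, k ∈ M' ∧ act k m = m ∧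
      act k l = μ • l ∧ act k l' = b • l + μ⁻¹ • l' ∧ μ ≠ 0 ∧ μ ∈ F₀ ∧ σ μ = μ ∧ μ * μ - μ ≠ 0 := by
    by_cases h2 : (2 : F) = 0
    · obtain ⟨a, ha, has, ha0, ha1⟩ := h3.resolve_left (not_not.2 h2)
      have hux' := hρu (c₀ * a) (by rw [map_mul, has]; linear_combination a * hc₀s)
        (hup _ (F₀.mul_mem hc₀ ha) (by rw [map_mul, has]; linear_combination a * hc₀s))
      obtain ⟨D, ⟨k, hk⟩, hD10, hD00⟩ := SLTwo.exists_borel h2 ρ.range hc₀0 hux hg₀
        (by rw [hg₀']; exact hc0) hux' (mul_ne_zero hc₀0 ha0)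
      obtain ⟨hk1, hk2, hk3, hk4⟩ := hρk k
      rw [hk, hD10] at hk3
      rw [hk] at hk4
      have hμa : D 0 0 * D 0 0 = a := mul_right_cancel₀ hc₀0 (hD00.trans (mul_comm _ _))
      have hdet := SLTwo.det2 D
      rw [hD10, mul_zero, sub_zero] at hdet
      have hinj : ∀ x : F, x * x = a → x = D 0 0 := fun x hx => by
        have : (x - D 0 0) ^ 2 = 0 := by
          linear_combination hx - hμa + (D 0 0 * D 0 0 - x * D 0 0) * h2
        exact sub_eq_zero.1 (eq_zero_of_pow_eq_zero this)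
      refine ⟨k.1, D 0 0, D 0 1, hk1, hk2, by rw [hk3]; simp, ?_, fun h => ha0 (by rw [← hμa, h, zero_mul]),
        ?_, hinj _ (by rw [← map_mul, hμa, has]), fun h => ?_⟩
      · rw [hk4, show D 1 1 = (D 0 0)⁻¹ from eq_inv_of_mul_eq_one_right hdet]
      · haveI : Fintype F₀ := Fintype.ofFinite _
        obtain ⟨⟨x, hxF⟩, hx⟩ := FiniteField.isSquare_of_char_two (F := F₀)
          (ringChar.eq_iff.2 (by
            haveI : Fact (Nat.Prime 2) := ⟨Nat.prime_two⟩
            exact CharTwo.of_one_ne_zero_of_two_eq_zero one_ne_zero (Subtype.ext h2))) ⟨a, ha⟩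
        exact hinj x (congrArg Subtype.val hx).symm ▸ hxF
      · have hμμ : D 0 0 = a := by linear_combination -h + hμa
        have : a * (a - 1) = 0 := by
          rw [← hμμ]; linear_combination h
        rcases mul_eq_zero.1 this with h' | h'
        · exact ha0 h'
        · exact ha1 (sub_eq_zero.1 h')
    · obtain ⟨k, hk⟩ := SLTwo.neg_one_mem h2 ρ.range hc₀0 hux hg₀ (by rw [hg₀']; exact hc0)
      obtain ⟨hk1, hk2, hk3, hk4⟩ := hρk k
      rw [hk] at hk3 hk4
      refine ⟨k.1, -1, 0, hk1, hk2, ?_, ?_, neg_ne_zero.2 one_ne_zero, F₀.neg_mem F₀.one_mem, by simp,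
        fun h => h2 (by linear_combination h)⟩
      · rw [hk3]; simp
      · rw [hk4]; simp
  -- conjugating rational unipotent elements
  refine rat_of_comm C fun t ht => ?_
  obtain ⟨z', hz', hp'⟩ := exists_par C R ht
  have hY := heis_rat C R ht hz' hp'
  have hkf := hM'f hkM
  have hcomm : X⁻¹ * heis hU l m t z' * X = heis hU l m t z' * utv hU l (d * (t * σ s - s * σ t)) := by
    rw [mul_assoc, inv_mul_eq_iff_eq_mul, ← mul_assoc, hX, heis_comm hU hf]
  have hk1 : k * heis hU l m t z' * k⁻¹ = heis hU l m (μ * t) (μ * μ * z') := by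
    rw [mul_inv_eq_iff_eq_mul]
    refine hf.gl_ext hU ?_ ?_ ?_
    · rw [act_mul, act_mul, heis_l hU hf, hkl, map_smul, heis_l hU hf]
    · rw [act_mul, act_mul, heis_l' hU hf, hkl', map_add, map_add, map_add, map_smul, map_smul, map_smul,
        map_smul, hkl, hkl', hkm, heis_l hU hf, heis_l' hU hf]
      simp only [smul_add, smul_smul, mul_assoc, inv_mul_cancel_left₀ hμ0]
      module
    · rw [act_mul, act_mul, heis_m hU hf, hkm, map_sub, map_smul, hkm, hkl, heis_m hU hf, map_mul, hμs]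
      module
  have hd1 := mul_mem (mul_mem (hM'.1 hkM) hY) (inv_mem (hM'.1 hkM))
  have hcalc : X * k * X⁻¹ * heis hU l m t z' * (X * k * X⁻¹)⁻¹ =
      heis hU l m (μ * t) (μ * μ * z') * utv hU l ((μ * μ - μ) * (d * (t * σ s - s * σ t))) := by
    have e1 : X * k * X⁻¹ * heis hU l m t z' * (X * k * X⁻¹)⁻¹ =
        X * ((k * heis hU l m t z' * k⁻¹) * (k * utv hU l (d * (t * σ s - s * σ t)) * k⁻¹)) * X⁻¹ := by
      calc _ = X * (k * (X⁻¹ * heis hU l m t z' * X) * k⁻¹) * X⁻¹ := by group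
        _ = _ := by rw [hcomm]; group
    rw [e1, hk1, conj_utv hU hkf hf.ll, hkl, utv_smul hU hf.ll, hμs, mul_inv_eq_iff_eq_mul, hX,
      ← heis_eq_utv hU hf, ← heis_eq_utv hU hf, heis_mul hU hf, heis_mul hU hf, heis_mul hU hf,
      heis_mul hU hf]
    simp only [map_zero, map_mul, map_add, hμs, mul_zero, zero_mul, sub_zero, add_zero, zero_add]
    congr 1 <;> ring
  rw [hcalc] at hd1
  have h2 := heis_rat C R (F₀.mul_mem hμF ht) (F₀.mul_mem (F₀.mul_mem hμF hμF) hz') (by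
    unfold Par at hp' ⊢
    simp only [map_mul, hμs]
    linear_combination (μ * μ) * hp')
  rw [M.mul_mem_cancel_left h2] at hd1
  have hdF := hno _ _ _ _ R _ (by
    simp only [map_mul, map_sub, hμs, hf.σd hU, hU.involutive]; ring) hd1
  have := F₀.mul_mem (F₀.inv_mem (F₀.mul_mem (F₀.sub_mem (F₀.mul_mem hμF hμF) hμF) (R.d_mem C))) hdF
  rw [show ((μ * μ - μ) * d)⁻¹ * ((μ * μ - μ) * (d * (t * σ s - s * σ t))) = t * σ s - s * σ t by
    rw [← mul_assoc (μ * μ - μ), ← mul_assoc, inv_mul_cancel₀ (mul_ne_zero hμ1 hf.d0), one_mul]] at this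
  simpa using F₀.neg_mem this

/-- a transvection at a rational point has a rational coefficient -/
theorem ratT_of_param (hno : NoSeed C.unit F₀ P M) (R : RFrame f F₀ P l l' m d) {s z k c : F} (hsF : s ∈ F₀)
    (hzF : z ∈ F₀) (hp : Par σ d s z) (hc : c + σ c = 0)
    (hM : utv C.unit (act (heis C.unit l m s z) l') (k * σ k * c) ∈ M) :
    RatT σ F₀ P (k • act (heis C.unit l m s z) l') c := by
  have hU := C.unit
  have hf := R.frame
  have hXM := heis_rat C R hsF hzF hp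
  refine ⟨k, act (heis hU l m s z) l', ?_, rfl, ?_⟩
  · rw [heis_l' hU hf]
    exact Submodule.add_mem _ (Submodule.add_mem _ R.rl' (ratVec_smul hsF R.rm)) (ratVec_smul hzF R.rl)
  · have h := M.mul_mem (M.mul_mem (M.inv_mem hXM) hM) hXM
    have e : (heis hU l m s z)⁻¹ * utv hU (act (heis hU l m s z) l') (k * σ k * c) * heis hU l m s z =
        utv hU l' (k * σ k * c) := by
      rw [← conj_utv hU (C.iso hXM) hf.l'l']; group
    rw [e] at h
    have := hno _ _ _ _ (R.swap C) _ (by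
      simp only [map_mul, hU.involutive]; linear_combination (k * σ k) * hc) h
    rwa [show c * k * σ k = k * σ k * c by ring]

/-- a vector off the line of `l` in the coordinates of the frame -/
theorem coords (hf : Frame f l l' m d) {v : ι → F} (hvv : f v v = 0) (hvl : f v l ≠ 0) :
    ∃ s z : F, Par σ d s z ∧ v = f v l • act (heis C.unit l m s z) l' := by
  have hU := C.unit
  obtain ⟨w, hw⟩ : ∃ w, w = (f v l)⁻¹ • v := ⟨_, rfl⟩
  have hv : v = f v l • w := by rw [hw, smul_inv_smul₀ hvl]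
  have hwl : f w l = 1 := by rw [hw, smul_left hU, inv_mul_cancel₀ hvl]
  have hww : f w w = 0 := by rw [hw, smul_left hU, smul_right hU, hvv, mul_zero, mul_zero]
  have e := hf.expand hU w
  rw [hwl, one_smul] at e
  have e' : act (heis hU l m (f w m / d) (f w l')) l' = w := by
    rw [heis_l' hU hf]; conv_rhs => rw [e]
    module
  refine ⟨f w m / d, f w l', ?_, by rw [e']; exact hv⟩
  generalize f w l' = T, f w m / d = S at e
  rw [e] at hww
  unfold Par
  simp only [add_left hU, add_right hU, smul_left hU, smul_right hU, hf.ll, hf.ll', hf.l'l hU, hf.l'l',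
    hf.lm, hf.l'm, hf.ml hU, hf.ml' hU, hf.mm] at hww
  linear_combination hww

/-- the transvections sit at rational points -/
theorem ratT_big (hno : NoSeed C.unit F₀ P M)
    (h3 : (2 : F) ≠ 0 ∨ ∃ a ∈ F₀, σ a = a ∧ a ≠ 0 ∧ a ≠ 1)
    (R : RFrame f F₀ P l l' m d) {v : ι → F} (hvv : f v v = 0) (hvl : f v l ≠ 0) {c : F}
    (hc : c + σ c = 0) (hc0 : c ≠ 0) (hM : utv C.unit v c ∈ M) : RatT σ F₀ P v c := by
  have hU := C.unit
  have hf := R.frame
  obtain ⟨s, z, hp, hv⟩ := coords C hf hvv hvl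
  obtain ⟨k, hk⟩ : ∃ k, k = f v l := ⟨_, rfl⟩
  rw [← hk] at hv hvl
  have hpX : f (act (heis hU l m s z) l') (act (heis hU l m s z) l') = 0 := by
    rw [mem_uiso.1 (heis_mem hU hf hp), hf.l'l']
  rw [hv, utv_smul hU hpX] at hM
  have hcs : k * σ k * c + σ (k * σ k * c) = 0 := by
    simp only [map_mul, hU.involutive]; linear_combination (k * σ k) * hc
  have hc'0 : k * σ k * c ≠ 0 := mul_ne_zero (mul_ne_zero hvl ((map_ne_zero σ).2 hvl)) hc0
  have hsF := param_rat C hno h3 R hp hcs hc'0 hM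
  -- a rational translate with non-zero parameter, read in the swapped frame
  obtain ⟨t, ht, hts⟩ : ∃ t ∈ F₀, t + s ≠ 0 := by
    by_cases h : s = 0
    · exact ⟨1, F₀.one_mem, by rw [h]; simp⟩
    · exact ⟨0, F₀.zero_mem, by rwa [zero_add]⟩
  obtain ⟨z', hz', hp'⟩ := exists_par C R ht
  have hY := heis_rat C R ht hz' hp'
  have hM2 := M.mul_mem (M.mul_mem hY hM) (M.inv_mem hY)
  rw [conj_utv hU (C.iso hY) hpX, ← act_mul, heis_mul hU hf] at hM2
  obtain ⟨Z, hZ⟩ : ∃ Z, Z = z' + z - d * σ t * s := ⟨_, rfl⟩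
  rw [← hZ] at hM2
  have hP2 : Par σ d (t + s) Z := by
    unfold Par at hp hp' ⊢
    rw [hZ]
    simp only [map_add, map_sub, map_mul, hU.involutive, hf.σd hU]
    linear_combination hp + hp'
  have hZ0 : Z ≠ 0 := by
    rintro rfl
    unfold Par at hP2
    rw [map_zero, add_zero, zero_add, mul_eq_zero, mul_eq_zero] at hP2
    rcases hP2 with (h | h) | h
    · exact hts h
    · exact hts ((map_eq_zero σ).1 h)
    · exact hf.d0 h
  have hf' := hf.swap hU
  have hP3 : Par σ d ((t + s) / Z) Z⁻¹ := by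
    unfold Par at hP2 ⊢
    rw [map_inv₀, map_div₀]
    field_simp [(map_ne_zero σ).2 hZ0]
    linear_combination hP2
  have hpt : act (heis hU l m (t + s) Z) l' = Z • act (heis hU l' m ((t + s) / Z) Z⁻¹) l := by
    rw [heis_l' hU hf, heis_l' hU hf', smul_add, smul_add, smul_smul, smul_smul, mul_div_cancel₀ _ hZ0,
      mul_inv_cancel₀ hZ0, one_smul]
    abel
  rw [hpt, utv_smul hU (by rw [mem_uiso.1 (heis_mem hU hf' hP3), hf.ll])] at hM2
  have hq := param_rat C hno h3 (R.swap C) hP3 (c := Z * σ Z * (k * σ k * c)) (by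
    simp only [map_mul, hU.involutive]; linear_combination (Z * σ Z * (k * σ k)) * hc)
    (mul_ne_zero (mul_ne_zero hZ0 ((map_ne_zero σ).2 hZ0)) hc'0) hM2
  have hZF : Z ∈ F₀ := by
    have := F₀.div_mem (F₀.add_mem ht hsF) hq
    rwa [div_div_cancel₀ hts] at this
  have hzF : z ∈ F₀ := by
    rw [show z = Z - z' + d * σ t * s by rw [hZ]; ring]
    exact F₀.add_mem (F₀.sub_mem hZF hz') (F₀.mul_mem (F₀.mul_mem (R.d_mem C) (C.stable t ht)) hsF)
  rw [hv]
  exact ratT_of_param C hno R hsF hzF hp hc hM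

end Cfsg.Agent.MaxCl.SU3.Subfield
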