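/-
The subfield of four elements: an overgroup of SU_3(2) with no seed has its transvections at rational points.
The transvection with rational centre is an isolated involution, so by Z* it is central modulo the odd core,
on which it inverts everything modulo the centre.
-/
import Mathlib.GroupTheory.FixedPointFree
import Cfsg.Agent.Lib.MaxCl.SU3.Subfield.Step
import Cfsg.Agent.Lib.ZStar.Main
import Cfsg.Agent.Lib.PCore.Basic

set_option autoImplicit false

namespace Cfsg.Agent.MaxCl.SU3.Subfield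

open Cfsg.Agent.MaxCl Cfsg.Agent.MaxCl.Unit
open scoped MatrixGroups Matrix

variable {ι : Type} [Fintype ι] [DecidableEq ι] {F : Type*} [Field F] [Fintype F]
variable {σ : F ≃+* F} {f : (ι → F) → (ι → F) → F} {F₀ : Subfield F} {P : GL ι F} {r : ℕ}
  {M : Subgroup (GL ι F)} {l l' m : ι → F} {d : F}

section General

variable (hU : Cfsg.Geo.IsUnitaryForm σ f) (hf : Frame f l l' m d)
include hU hf

omit [Fintype F] in
theorem act_of_commute {g : GL ι F} (hg : g ∈ uiso f) {c : F} (hc : c ≠ 0)
    (h : g * utv hU l c = utv hU l c * g) : act g l = f (act g l') l • l := by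
  have e := congrArg (act · l') h
  simp only [act_mul, act_utv hU hf.ll, hf.l'l hU, map_add, map_smul, mul_one, add_right_inj] at e
  rw [mul_smul] at e
  exact smul_right_injective _ hc e

omit [Fintype F] in
theorem eq_one_of_commute (h2 : (2 : F) = 0) {g : GL ι F} (hg : g ∈ uiso f) (hgg : g * g = 1) {c c' : F}
    (hc : c ≠ 0) (hc' : c' ≠ 0) (h : g * utv hU l c = utv hU l c * g)
    (h' : g * utv hU l' c' = utv hU l' c' * g) : g = 1 := by
  have hf' := hf.swap hU
  have one : ∀ {x : ι → F}, x ≠ 0 → ∀ {μ : F}, act g x = μ • x → act g x = x := fun {x} hx {μ} e => by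
    have e2 : act g (act g x) = x := by rw [← act_mul, hgg, act_one]
    rw [e, map_smul, e, smul_smul] at e2
    have hμ : (μ - 1) ^ 2 = 0 := by
      have : μ * μ = 1 := smul_left_injective F hx (e2.trans (one_smul F x).symm)
      linear_combination this + (1 - μ) * h2
    rw [e, sub_eq_zero.1 (eq_zero_of_pow_eq_zero hμ), one_smul]
  have gl := one (hf.l0 hU) (act_of_commute hU hf hg hc h)
  have gl' := one (hf'.l0 hU) (act_of_commute hU hf' hg hc' h')
  have gm : act g m = (f (act g m) m / d) • m := by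
    have e1 : f (act g m) l' = 0 := by conv_lhs => rw [← gl', mem_uiso.1 hg, hf.ml' hU]
    have e2 : f (act g m) l = 0 := by conv_lhs => rw [← gl, mem_uiso.1 hg, hf.ml hU]
    conv_lhs => rw [hf.expand hU (act g m), e1, e2, zero_smul, zero_smul, zero_add, zero_add]
  have gm' := one (fun h0 => hf.d0 (by rw [← hf.mm, h0, zero_left hU])) gm
  exact hf.gl_ext hU (by rw [gl, act_one]) (by rw [gl', act_one]) (by rw [gm', act_one])

omit [Fintype F] in
theorem utv_ne_one {c : F} (hc : c ≠ 0) : utv hU l c ≠ 1 := fun h => by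
  have e := congrArg (act · l') h
  simp only [act_utv hU hf.ll, act_one, hf.l'l hU, mul_one, add_eq_left] at e
  exact hc ((smul_eq_zero.1 e).resolve_right (hf.l0 hU))

omit [Fintype F] in
theorem utv_sq (h2 : (2 : F) = 0) (c : F) : utv hU l c * utv hU l c = 1 := by
  rw [utv_add hU hf.ll, show c + c = 0 by linear_combination c * h2, utv_zero hU]

end General

variable (C : Ctx σ f F₀ P r M)
include C

theorem skew_eq (hK : ∀ a ∈ F₀, σ a = a → a = 0 ∨ a = 1) {c c₀ : F} (hcF : c ∈ F₀) (hc : c + σ c = 0)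
    (hc₀F : c₀ ∈ F₀) (hc₀ : c₀ + σ c₀ = 0) (h0 : c₀ ≠ 0) (hne : c ≠ 0) : c = c₀ := by
  rcases hK (c / c₀) (F₀.div_mem hcF hc₀F) (by
    rw [map_div₀, eq_neg_of_add_eq_zero_right hc, eq_neg_of_add_eq_zero_right hc₀, neg_div_neg_eq]) with h | h
  · exact absurd ((div_eq_zero_iff.1 h).resolve_right h0) hne
  · exact (div_eq_one_iff_eq h0).1 h

/-- the transvections sit at rational points -/
theorem ratT_two (hno : NoSeed C.unit F₀ P M) (h2 : (2 : F) = 0)
    (hK : ∀ a ∈ F₀, σ a = a → a = 0 ∨ a = 1)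
    (R : RFrame f F₀ P l l' m d) {v : ι → F} (hvv : f v v = 0) (hvl : f v l ≠ 0) {c : F}
    (hc : c + σ c = 0) (hc0 : c ≠ 0) (hM : utv C.unit v c ∈ M) : RatT σ F₀ P v c := by
  have hU := C.unit
  have hf := R.frame
  haveI : Fact (Nat.Prime 2) := ⟨Nat.prime_two⟩
  -- the skew element of `F₀` is one, and a moved element is a primitive cube root of unity
  have h11 : (1 : F) + σ 1 = 0 := by rw [map_one]; linear_combination h2
  have hd1 : d = 1 := (hK d (R.d_mem C) (hf.σd hU)).resolve_left hf.d0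
  obtain ⟨θ, hθ, hne⟩ := C.moved
  let u : M := ⟨utv hU l 1, utv_rat C R F₀.one_mem h11⟩
  have hu2 : u * u = 1 := Subtype.ext (utv_sq hU hf h2 1)
  have hui : u⁻¹ = u := inv_eq_of_mul_eq_one_right hu2
  -- transvections conjugate to `u` off its line
  have hodd : ∀ {x : ι → F}, f x x = 0 → f x l ≠ 0 → ∀ {c' : F}, c' + σ c' = 0 → c' ≠ 0 →
      ∀ hm : utv hU x c' ∈ M, ∃ g : M, g * u * g⁻¹ = ⟨utv hU x c', hm⟩ := by
    intro x hxx hxl c' hc' hc'0 hm
    obtain ⟨s, z, hp, hx⟩ := coords C hf hxx hxl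
    have hX := heis_mem hU hf hp
    have hf2 : Frame f l (act (heis hU l m s z) l') (act (heis hU l m s z) m) d := by
      have e := mem_uiso.1 hX
      have el := heis_l hU hf s z
      refine ⟨hf.three, hf.ll, by rw [e, hf.l'l'], ?_, ?_, by rw [e, hf.l'm], by rw [e, hf.mm], hf.d0⟩
      · have := e l l'
        rw [el] at this; rw [this, hf.ll']
      · have := e l m
        rw [el] at this; rw [this, hf.lm]
    obtain ⟨y, hy⟩ : ∃ y, y = act (heis hU l m s z) l' := ⟨_, rfl⟩
    rw [← hy] at hx hf2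
    obtain ⟨k, hk⟩ : ∃ k, k = f x l := ⟨_, rfl⟩
    rw [← hk] at hx hxl
    let t : M := ⟨utv hU x c', hm⟩
    have ht2 : t * t = 1 := Subtype.ext (by
      show utv hU x c' * utv hU x c' = 1
      rw [utv_add hU hxx, show c' + c' = 0 by linear_combination c' * h2, utv_zero hU])
    have hti : t⁻¹ = t := inv_eq_of_mul_eq_one_right ht2
    have hcu : ∀ j : ℕ, u * (u * t) ^ j * u⁻¹ = ((u * t) ^ j)⁻¹ := fun j => by
      rw [← conj_pow, ← inv_pow]
      congr 1
      rw [mul_inv_rev, hui, hti, ← mul_assoc, hu2, one_mul]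
    rcases Nat.even_or_odd (orderOf (u * t)) with ⟨j, hj⟩ | ⟨j, hj⟩
    · exfalso
      have hj0 : 0 < j := by have := orderOf_pos (u * t); omega
      obtain ⟨Z, hZ⟩ : ∃ Z, Z = (u * t) ^ j := ⟨_, rfl⟩
      have hZ2 : Z * Z = 1 := by rw [hZ, ← pow_add, ← hj, pow_orderOf_eq_one]
      have hZu : Z * u = u * Z := by
        have h1 := hcu j
        rw [← hZ, inv_eq_of_mul_eq_one_right hZ2, mul_inv_eq_iff_eq_mul] at h1
        exact h1.symm
      have hZt : Z * t = t * Z := by
        have h1 : Z * (u * t) = u * t * Z := by rw [hZ, ← pow_succ, ← pow_succ']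
        rw [← mul_assoc, hZu, mul_assoc, mul_assoc] at h1
        exact mul_left_cancel h1
      have ez := eq_one_of_commute hU hf2 h2 (C.iso Z.2) (congrArg Subtype.val hZ2) one_ne_zero
        (show k * σ k * c' ≠ 0 from mul_ne_zero (mul_ne_zero hxl ((map_ne_zero σ).2 hxl)) hc'0)
        (congrArg Subtype.val hZu) (by
          have := congrArg Subtype.val hZt
          simp only [Subgroup.coe_mul, t] at this
          rwa [hx, utv_smul hU hf2.l'l'] at this)
      have : orderOf (u * t) ∣ j := orderOf_dvd_of_pow_eq_one (hZ ▸ Subtype.ext ez)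
      have := Nat.le_of_dvd hj0 this
      omega
    · refine ⟨(u * t) ^ j, ?_⟩
      have h1 : (u * t) ^ j * u = u * ((u * t) ^ j)⁻¹ := by
        rw [← hcu, ← mul_assoc, ← mul_assoc, hu2, one_mul, hui]
      have e : ((u * t) ^ j)⁻¹ * ((u * t) ^ j)⁻¹ = u * t := by
        rw [← mul_inv_rev, ← pow_add, inv_eq_iff_mul_eq_one, ← pow_succ, ← two_mul, ← hj, pow_orderOf_eq_one]
      rw [h1, mul_assoc, e, ← mul_assoc, hu2, one_mul]
  -- `u` is isolated
  have hiso : Cfsg.IsIsolatedInvolution u := by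
    refine ⟨orderOf_eq_prime (by rw [pow_two]; exact hu2)
      fun h => utv_ne_one hU hf one_ne_zero (congrArg Subtype.val h), fun g hcom => ?_⟩
    have hg := C.iso g.2
    apply Subtype.ext
    show g.1 * utv hU l 1 * g.1⁻¹ = utv hU l 1
    have hcom' : utv hU (act g.1 l) 1 * utv hU l 1 = utv hU l 1 * utv hU (act g.1 l) 1 := by
      rw [← conj_utv hU hg hf.ll]; exact (congrArg Subtype.val hcom).symm
    rw [conj_utv hU hg hf.ll]
    have hgi := (mem_uiso.1 hg l l).trans hf.ll
    have hwl : f (act g.1 l) l = 0 := by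
      by_contra hne'
      have e := congrArg (act · l) hcom'
      simp only [act_mul, act_utv hU hgi, act_utv hU hf.ll, hf.ll, mul_zero, zero_smul, add_zero,
        add_left hU, smul_left hU, one_mul, add_zero] at e
      have hne2 := ne_symm hU hne'
      have e' : (f l (act g.1 l) * f (act g.1 l) l) • l = 0 := by linear_combination (norm := module) -e
      rcases smul_eq_zero.1 e' with h | h
      · exact mul_ne_zero hne2 hne' h
      · exact hf.l0 hU h
    obtain ⟨μ, hμ⟩ := Submodule.mem_span_singleton.1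
      (dep_of_iso_orth_three hU hf.three.le (hf.l0 hU) hf.ll hgi (eq_zero_symm hU hwl))
    have hμ0 : μ ≠ 0 := by
      rintro rfl
      exact hf.l0 hU (act_injective g.1 (by rw [← hμ, zero_smul, map_zero]))
    rw [← hμ, utv_smul hU hf.ll]
    have hm : utv hU l (μ * σ μ * 1) ∈ M := by
      rw [← utv_smul hU hf.ll, hμ, ← conj_utv hU hg hf.ll]
      exact (g * u * g⁻¹).2
    have hsk : μ * σ μ * 1 + σ (μ * σ μ * 1) = 0 := by
      simp only [map_mul, hU.involutive, map_one]; linear_combination (μ * σ μ) * h2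
    rw [skew_eq C hK (hno _ _ _ _ R _ hsk hm) hsk F₀.one_mem h11 one_ne_zero
      (mul_ne_zero (mul_ne_zero hμ0 ((map_ne_zero σ).2 hμ0)) one_ne_zero)]
  have hZ := ZStar.inZStar hiso
  set O := Cfsg.pPrimeCore 2 (↥M) with hO
  haveI hOn : O.Normal := inferInstance
  have hOodd : ¬ 2 ∣ Nat.card O := PCore.not_dvd_card_pPrimeCore
  have hone : ∀ x : M, x ∈ O → x ^ 4 = 1 → x = 1 := by
    intro x hx h4
    have h1 : (orderOf x).Coprime 4 := by
      have h3 : orderOf x ∣ Nat.card O := Subgroup.orderOf_dvd_natCard O hx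
      exact Nat.Coprime.pow_right 2 ((Nat.Prime.coprime_iff_not_dvd Nat.prime_two).2
        (fun h => hOodd (h.trans h3))).symm
    exact orderOf_eq_one_iff.1 (Nat.eq_one_of_dvd_coprimes h1 dvd_rfl (orderOf_dvd_of_pow_eq_one h4))
  -- the centraliser of `u` in the odd core is central
  have hcent : ∀ g : M, g ∈ O → u * g = g * u → g ∈ Subgroup.center M := by
    intro g hgO hgu
    have hg := C.iso g.2
    obtain ⟨μ, hμ⟩ : ∃ μ, μ = f (act g.1 l') l := ⟨_, rfl⟩
    have gl : act g.1 l = μ • l := hμ ▸ act_of_commute hU hf hg one_ne_zero (congrArg Subtype.val hgu).symm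
    have hμ0 : μ ≠ 0 := by
      rintro h
      exact hf.l0 hU (act_injective g.1 (by rw [gl, h, zero_smul, map_zero]))
    have gml : f (act g.1 m) l = 0 := by
      have := mem_uiso.1 hg m l
      rw [gl, smul_right hU, hf.ml hU] at this
      exact (mul_eq_zero.1 this).resolve_left ((map_ne_zero σ).2 hμ0)
    obtain ⟨a, b, gm⟩ : ∃ a b, act g.1 m = a • m + b • l := ⟨f (act g.1 m) m / d, f (act g.1 m) l', by
      conv_lhs => rw [hf.expand hU (act g.1 m), gml, zero_smul]
      module⟩
    have hcomm : ∀ s z, s ∈ F₀ → z ∈ F₀ → Par σ d s z →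
        g.1 * heis hU l m s z = heis hU l m s z * g.1 := by
      intro s z hs hz hp
      obtain ⟨z', -, he⟩ := conj_heis hU hf hg gl gm hp
      let X : M := ⟨_, heis_rat C R hs hz hp⟩
      have hO1 : g * X * g⁻¹ * X⁻¹ ∈ O := by
        have h : g * (X * g⁻¹ * X⁻¹) ∈ O := O.mul_mem hgO (hOn.conj_mem _ (O.inv_mem hgO) X)
        rwa [show g * (X * g⁻¹ * X⁻¹) = g * X * g⁻¹ * X⁻¹ by group] at h
      have e1 : (heis hU l m s z)⁻¹ = heis hU l m (-s) (σ z) := by
        refine inv_eq_of_mul_eq_one_right ?_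
        rw [heis_mul hU hf, add_neg_cancel, heis_eq_utv hU hf]
        unfold Par at hp
        rw [show z + σ z - d * σ s * -s = 0 by linear_combination hp, utv_zero hU]
      have e4 : ∀ S Z, heis hU l m S Z ^ 4 = 1 := fun S Z => by
        rw [pow_succ, pow_succ, pow_succ, pow_one, heis_mul hU hf, heis_mul hU hf, heis_mul hU hf,
          show S + S + S + S = 0 by linear_combination (2 * S) * h2, heis_eq_utv hU hf,
          show Z + Z - d * σ S * S + Z - d * σ (S + S) * S + Z - d * σ (S + S + S) * S = 0 by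
            simp only [map_add]; linear_combination (2 * Z - 3 * (d * σ S * S)) * h2, utv_zero hU]
      have h1 := hone _ hO1 (Subtype.ext (by
        simp only [SubmonoidClass.coe_pow, Subgroup.coe_mul, Subgroup.coe_inv, Subgroup.coe_one, X]
        rw [he, e1, heis_mul hU hf, e4]))
      have h1' := congrArg Subtype.val (mul_inv_eq_iff_eq_mul.1 (mul_inv_eq_one.1 h1))
      simpa [X] using h1'
    obtain ⟨z₁, hz₁, hp₁⟩ := exists_par C R F₀.one_mem
    obtain ⟨z₂, hz₂, hp₂⟩ := exists_par C R hθ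
    have e2 := congrArg (act · m) (hcomm 1 z₁ F₀.one_mem hz₁ hp₁)
    simp only [act_mul, heis_m hU hf, map_sub, map_smul, gm, gl, map_add, heis_l hU hf, map_one] at e2
    have haμ : a = μ := by
      have e' : (d * (a - μ)) • l = 0 := by linear_combination (norm := module) e2
      exact sub_eq_zero.1 ((mul_eq_zero.1 ((smul_eq_zero.1 e').resolve_right (hf.l0 hU))).resolve_left hf.d0)
    obtain ⟨T, G, gl'⟩ : ∃ T G, act g.1 l' = T • l + μ • l' + G • m :=
      ⟨f (act g.1 l') l', f (act g.1 l') m / d, by rw [hμ]; exact hf.expand hU _⟩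
    have key : ∀ s z, s ∈ F₀ → z ∈ F₀ → Par σ d s z → s * b + G * d * σ s = 0 := by
      intro s z hs hz hp
      have e := congrArg (act · l') (hcomm s z hs hz hp)
      simp only [act_mul, heis_l' hU hf, map_add, map_smul, gl', gm, gl, heis_l hU hf, heis_m hU hf] at e
      have e' : (s * b + G * d * σ s) • l = 0 := by rw [haμ] at e; linear_combination (norm := module) e
      exact (smul_eq_zero.1 e').resolve_right (hf.l0 hU)
    have k1 := key 1 z₁ F₀.one_mem hz₁ hp₁
    have k2 := key θ z₂ hθ hz₂ hp₂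
    rw [map_one, one_mul, mul_one] at k1
    have hG : G = 0 := by
      have : G * d * (σ θ - θ) = 0 := by linear_combination k2 - θ * k1
      exact (mul_eq_zero.1 ((mul_eq_zero.1 this).resolve_right (sub_ne_zero.2 hne))).resolve_right hf.d0
    have hb : b = 0 := by rw [hG] at k1; linear_combination k1
    rw [hG, zero_smul, add_zero] at gl'
    rw [hb, zero_smul, add_zero, haμ] at gm
    have hpow : ∀ n : ℕ, act (g.1 ^ n) l' = μ ^ n • l' + ((n : F) * μ ^ n * (T / μ)) • l ∧
        act (g.1 ^ n) l = μ ^ n • l := by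
      intro n
      induction n with
      | zero => simp [act_one]
      | succ n ih =>
        refine ⟨?_, ?_⟩
        · rw [pow_succ g.1, act_mul, gl', map_add, map_smul, map_smul, ih.1, ih.2, Nat.cast_succ,
            pow_succ μ, show T = T / μ * μ from (div_mul_cancel₀ T hμ0).symm]
          simp only [mul_div_cancel_right₀ _ hμ0]
          module
        · rw [pow_succ g.1, act_mul, gl, map_smul, ih.2, smul_smul, pow_succ μ, mul_comm]
    have hT : T = 0 := by
      have hn := (hpow (orderOf g)).1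
      rw [← SubmonoidClass.coe_pow, pow_orderOf_eq_one, Subgroup.coe_one, act_one] at hn
      have hodd' : Odd (orderOf g) := Nat.not_even_iff_odd.1 fun h =>
        hOodd ((even_iff_two_dvd.1 h).trans (Subgroup.orderOf_dvd_natCard O hgO))
      have e1 := congrArg (f · l') hn
      have e2 := congrArg (f · l) hn
      simp only [add_left hU, smul_left hU, hf.l'l', hf.ll, hf.ll', hf.l'l hU, mul_zero, mul_one, zero_add,
        add_zero] at e1 e2
      obtain ⟨j, hj⟩ := hodd'
      rw [← e2, hj] at e1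
      push_cast at e1
      have : T / μ = 0 := by linear_combination -e1 - ((j : F) * (T / μ)) * h2
      exact (div_eq_zero_iff.1 this).resolve_right hμ0
    rw [hT, zero_smul, zero_add] at gl'
    refine Subgroup.mem_center_iff.2 fun y => Subtype.ext (Cfsg.Agent.MaxCl.gl_ext fun x => ?_)
    have hscal : ∀ w, act g.1 w = μ • w := fun w => by
      conv_lhs => rw [hf.expand hU w]
      conv_rhs => rw [hf.expand hU w]
      simp only [map_add, map_smul, gl, gl', gm, smul_add, smul_smul, mul_comm μ]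
    rw [Subgroup.coe_mul, Subgroup.coe_mul, act_mul, act_mul, hscal, hscal, map_smul]
  -- `u` inverts the odd core modulo the centre
  let Z₀ : Subgroup O := (Subgroup.center M).subgroupOf O
  haveI : Z₀.Normal := inferInstance
  let φ : O →* O := (MulAut.conjNormal u : MulAut O).toMonoidHom
  have hφ : ∀ x : O, (φ x : M) = u * x * u := fun x => by
    show ((MulAut.conjNormal u : MulAut O) x : M) = _
    rw [MulAut.conjNormal_apply, hui]
  have hle : Z₀ ≤ Z₀.comap φ := fun x hx => by
    show (φ x : M) ∈ Subgroup.center M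
    have hx' : (x : M) ∈ Subgroup.center M := hx
    rw [hφ, Subgroup.mem_center_iff.1 hx' u, mul_assoc, hu2, mul_one]
    exact hx'
  let φb := QuotientGroup.map Z₀ Z₀ φ hle
  have hfix : MonoidHom.FixedPointFree φb := by
    intro q
    induction q using QuotientGroup.induction_on with
    | H x =>
      intro hx
      rw [QuotientGroup.map_mk, QuotientGroup.eq] at hx
      refine (QuotientGroup.eq_one_iff x).2 ?_
      have hz : (φ x : M)⁻¹ * x ∈ Subgroup.center M := hx
      rw [hφ] at hz
      obtain ⟨z, hzdef⟩ : ∃ z : M, z = (u * x * u)⁻¹ * x := ⟨_, rfl⟩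
      rw [← hzdef] at hz
      have hzc := Subgroup.mem_center_iff.1 hz u
      have hxz : (x : M) = u * x * u * z := by rw [hzdef, mul_inv_cancel_left]
      have hxz2 : (x : M) = x * (z * z) := by
        calc (x : M) = u * x * u * z := hxz
          _ = u * (u * x * u * z) * u * z := by rw [← hxz]; exact hxz
          _ = (u * u) * x * (u * (z * u) * z) := by group
          _ = x * (z * z) := by rw [hu2, ← hzc, ← mul_assoc u u, hu2, one_mul, one_mul]
      have hzz : z * z = 1 := left_eq_mul.1 hxz2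
      have hzO : z ∈ O := by
        rw [hzdef]; exact O.mul_mem (O.inv_mem (hφ x ▸ (φ x).2)) x.2
      have hz1 := hone z hzO (by rw [show 4 = 2 * 2 from rfl, pow_mul, pow_two z, hzz, one_pow])
      rw [hz1, mul_one] at hxz
      show (x : M) ∈ Subgroup.center M
      refine hcent _ x.2 ?_
      conv_rhs => rw [hxz]
      rw [mul_assoc, hu2, mul_one]
  have hinvol : Function.Involutive φb := by
    intro q
    induction q using QuotientGroup.induction_on with
    | H x =>
      rw [QuotientGroup.map_mk, QuotientGroup.map_mk]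
      congr 1
      apply Subtype.ext
      rw [hφ, hφ, ← mul_assoc, ← mul_assoc, hu2, one_mul, mul_assoc, hu2, mul_one]
  have hab := hfix.commute_all_of_involutive hinvol
  have hinv := hfix.coe_eq_inv_of_involutive hinvol
  have hmemO : ∀ g : M, u * (g * u * g⁻¹) ∈ O := fun g => by
    have := O.inv_mem (hZ g)
    rwa [mul_inv_rev, mul_inv_rev, mul_inv_rev, inv_inv, inv_inv, hui, ← mul_assoc g u] at this
  -- the eigenvectors of products of two rational transvections
  have main : ∀ {l'' m' : ι → F}, RFrame f F₀ P l l'' m' d →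
      ∃ p, f v p = 0 ∧ (p = m' ∨ ∃ η ∈ F₀, η ≠ 0 ∧ p = l + η • l'') := by
    intro l'' m' R'
    have hf' := R'.frame
    have hm' : utv hU l'' 1 ∈ M := utv_rat C (R'.swap C) F₀.one_mem h11
    obtain ⟨g₁, hg₁⟩ := hodd hf'.l'l' (by rw [hf'.l'l hU]; exact one_ne_zero) h11 one_ne_zero hm'
    obtain ⟨g₂, hg₂⟩ := hodd hvv hvl hc hc0 hM
    let u' : M := ⟨_, hm'⟩
    let t : M := ⟨_, hM⟩
    let x : O := ⟨u * u', by have := hmemO g₁; rw [hg₁] at this; exact this⟩
    let y : O := ⟨u * t, by have := hmemO g₂; rw [hg₂] at this; exact this⟩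
    have hxy : (x * y)⁻¹ * (y * x) ∈ Z₀ :=
      QuotientGroup.eq.1 (hab (QuotientGroup.mk x) (QuotientGroup.mk y))
    have hxi : (φ x)⁻¹ * x⁻¹ ∈ Z₀ := by
      refine QuotientGroup.eq.1 (?_ : (QuotientGroup.mk (φ x) : O ⧸ Z₀) = QuotientGroup.mk x⁻¹)
      exact congrFun hinv (QuotientGroup.mk x)
    obtain ⟨z₁, hz₁⟩ : ∃ z : M, z = ((x : M) * y)⁻¹ * (y * x) := ⟨_, rfl⟩
    obtain ⟨z₂, hz₂⟩ : ∃ z : M, z = (φ x : M)⁻¹ * (x : M)⁻¹ := ⟨_, rfl⟩
    have hz₁c : z₁ ∈ Subgroup.center M := hz₁ ▸ hxy
    have hz₂c : z₂ ∈ Subgroup.center M := hz₂ ▸ hxi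
    -- `t x = x⁻¹ t` up to a central element
    have key : ∃ z : M, z ∈ Subgroup.center M ∧ t * x = (x : M)⁻¹ * t * z := by
      refine ⟨z₁ * z₂⁻¹, mul_mem hz₁c (inv_mem hz₂c), ?_⟩
      have e1 : (y : M) * x = x * y * z₁ := by rw [hz₁, mul_inv_cancel_left]
      have e2 : u * (x : M) * u = (x : M)⁻¹ * z₂⁻¹ := by
        rw [← hφ, hz₂]; group
      have hy : (y : M) = u * t := rfl
      calc t * x = u * (y * x) := by rw [hy, mul_assoc u t, ← mul_assoc u u, hu2, one_mul]
        _ = (u * x * u) * (u * y) * z₁ := by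
          rw [e1]; simp only [mul_assoc]; rw [← mul_assoc u u, hu2, one_mul]
        _ = (x : M)⁻¹ * z₂⁻¹ * t * z₁ := by rw [e2, hy, ← mul_assoc u u, hu2, one_mul]
        _ = (x : M)⁻¹ * t * (z₁ * z₂⁻¹) := by
          rw [mul_assoc ((x : M))⁻¹ z₂⁻¹, ← Subgroup.mem_center_iff.1 (inv_mem hz₂c) t,
            ← Subgroup.mem_center_iff.1 hz₁c z₂⁻¹]
          group
    obtain ⟨z, hzc, hz⟩ := key
    -- a central element of `M` is a scalar on `m'`
    have hzm : ∃ ξ : F, act z.1 m' = ξ • m' := by
      have gl := act_of_commute hU hf' (C.iso z.2) one_ne_zero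
        (congrArg Subtype.val (Subgroup.mem_center_iff.1 hzc u)).symm
      have gl' := act_of_commute hU (hf'.swap hU) (C.iso z.2) one_ne_zero
        (congrArg Subtype.val (Subgroup.mem_center_iff.1 hzc u')).symm
      refine ⟨f (act z.1 m') m' / d, ?_⟩
      have h1 := mem_uiso.1 (C.iso z.2) m' l
      have h2 := mem_uiso.1 (C.iso z.2) m' l''
      rw [gl, smul_right hU, hf'.ml hU] at h1
      rw [gl', smul_right hU, hf'.ml' hU] at h2
      have n1 : ∀ {w : ι → F}, w ≠ 0 → ∀ {k : F}, act z.1 w = k • w → σ k ≠ 0 := fun {w} hw {k} e h =>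
        hw (act_injective z.1 (by rw [e, (map_eq_zero σ).1 h, zero_smul, map_zero]))
      have q1 := (mul_eq_zero.1 h1).resolve_left (n1 (hf'.l0 hU) gl)
      have q2 := (mul_eq_zero.1 h2).resolve_left (n1 ((hf'.swap hU).l0 hU) gl')
      conv_lhs => rw [hf'.expand hU (act z.1 m'), q1, q2, zero_smul, zero_smul, zero_add, zero_add]
    obtain ⟨ξ, hξ⟩ := hzm
    have hxm : act (x : M).1 m' = m' := by
      show act (utv hU l 1 * utv hU l'' 1) m' = m'
      rw [act_mul, act_utv hU hf'.l'l', hf'.ml' hU, mul_zero, zero_smul, add_zero, act_utv hU hf'.ll,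
        hf'.ml hU, mul_zero, zero_smul, add_zero]
    -- `t m'` is an eigenvector of `x`
    obtain ⟨w, hw⟩ : ∃ w, w = act t.1 m' := ⟨_, rfl⟩
    have hxw : act (x : M).1 w = ξ • w := by
      have := congrArg (fun g : M => act (x : M).1 (act g.1 m')) hz
      simp only [Subgroup.coe_mul, Subgroup.coe_inv, act_mul, act_act_inv, hξ, map_smul, hxm] at this
      rwa [← hw] at this
    have hw' : w = m' + (c * f m' v) • v := by rw [hw]; exact act_utv hU hvv c m'
    rcases eq_or_ne (f v m') 0 with h0 | h0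
    · exact ⟨m', h0, Or.inl rfl⟩
    obtain ⟨A, B, D, hwexp⟩ : ∃ A B D, w = A • l + B • l'' + D • m' := ⟨_, _, _, hf'.expand hU w⟩
    have hxl : act (x : M).1 l = l'' ∧ act (x : M).1 l'' = l + l'' := by
      constructor <;>
        · show act (utv hU l 1 * utv hU l'' 1) _ = _
          simp only [act_mul, act_utv hU hf'.l'l', act_utv hU hf'.ll, hf'.ll', hf'.l'l', hf'.l'l hU, hf'.ll,
            add_left hU, map_add, map_smul, one_mul, mul_zero, zero_smul, add_zero, zero_add, one_smul]
          first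
            | linear_combination (norm := module) h2 • l
            | abel
    rw [hwexp] at hxw
    simp only [map_add, map_smul, hxl.1, hxl.2, hxm] at hxw
    have q1 := congrArg (f · l'') hxw
    have q2 := congrArg (f · l) hxw
    have q3 := congrArg (f · m') hxw
    simp only [add_left hU, smul_left hU, hf'.ll, hf'.ll', hf'.l'l hU, hf'.l'l', hf'.lm, hf'.l'm,
      hf'.ml hU, hf'.ml' hU, hf'.mm, mul_zero, mul_one, add_zero, zero_add] at q1 q2 q3
    have hvm : c * f m' v ≠ 0 := mul_ne_zero hc0 (ne_symm hU h0)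
    by_cases hξ1 : ξ = 1
    · exfalso
      subst hξ1
      obtain rfl : A = 0 := by linear_combination q2
      obtain rfl : B = 0 := by linear_combination q1
      rw [zero_smul, zero_smul, zero_add, zero_add, hw'] at hwexp
      have hv' : v = ((D - 1) / (c * f m' v)) • m' := by
        rw [div_eq_inv_mul, ← smul_smul, eq_inv_smul_iff₀ hvm]
        linear_combination (norm := module) hwexp
      generalize (D - 1) / (c * f m' v) = K at hv'
      rw [hv', smul_left hU, hf'.mm] at h0
      rw [hv', smul_left hU, smul_right hU, hf'.mm] at hvv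
      have hK0 : K ≠ 0 := left_ne_zero_of_mul h0
      exact mul_ne_zero hK0 (mul_ne_zero ((map_ne_zero σ).2 hK0) hf.d0) hvv
    have hD : D = 0 := by
      have : (ξ - 1) * D = 0 := (mul_eq_zero.1 (show ((ξ - 1) * D) * d = 0 by linear_combination -q3)).resolve_right
        hf.d0
      exact (mul_eq_zero.1 this).resolve_left (sub_ne_zero.2 hξ1)
    have hA : A ≠ 0 := by
      intro hA
      rw [hA] at q1 q2
      have hB : B = 0 := by linear_combination q1
      rw [hA, hB, hD] at hwexp
      have : m' = 0 := act_injective t.1 (by rw [← hw, hwexp, map_zero]; simp)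
      exact hf.d0 (by rw [← hf'.mm, this, zero_left hU])
    have hξ3 : ξ * ξ + ξ + 1 = 0 := by
      have : A * (ξ * ξ + ξ + 1) = 0 := by linear_combination -(ξ + 1) * q1 - q2 + (A + B) * h2
      exact (mul_eq_zero.1 this).resolve_left hA
    have hθ3 : θ * θ + θ + 1 = 0 := by
      have e1 : θ + σ θ = 1 := (hK _ (F₀.add_mem hθ (C.stable θ hθ))
        (by rw [map_add, hU.involutive, add_comm])).resolve_left fun h => hne (by linear_combination h - θ * h2)
      have hθ0 : θ ≠ 0 := fun h => hne (by rw [h, map_zero])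
      have e2 : θ * σ θ = 1 := (hK _ (F₀.mul_mem hθ (C.stable θ hθ))
        (by rw [map_mul, hU.involutive, mul_comm])).resolve_left (mul_ne_zero hθ0 ((map_ne_zero σ).2 hθ0))
      linear_combination θ * e1 - e2 + θ * h2
    have hξF : ξ ∈ F₀ := by
      have : (ξ - θ) * (ξ + θ + 1) = 0 := by linear_combination hξ3 - hθ3
      rcases mul_eq_zero.1 this with h | h
      · rw [sub_eq_zero.1 h]; exact hθ
      · rw [show ξ = -θ - 1 by linear_combination h]; exact F₀.sub_mem (F₀.neg_mem hθ) F₀.one_mem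
    have hξ0 : ξ ≠ 0 := fun h => one_ne_zero (α := F) (by rw [h] at hξ3; linear_combination hξ3)
    refine ⟨l + σ ξ • l'', ?_, Or.inr ⟨σ ξ, C.stable ξ hξF, (map_ne_zero σ).2 hξ0, rfl⟩⟩
    have r1 := congrArg (f · l) hwexp
    have r2 := congrArg (f · l'') hwexp
    rw [hw'] at r1 r2
    simp only [add_left hU, smul_left hU, hf'.ll, hf'.ll', hf'.l'l hU, hf'.l'l', hf'.lm, hf'.l'm,
      hf'.ml hU, hf'.ml' hU, hf'.mm, hD, mul_zero, mul_one, add_zero, zero_add, zero_mul] at r1 r2
    rw [add_right hU, smul_right hU, hU.involutive]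
    have : c * f m' v * (f v l + ξ * f v l'') = 0 := by
      linear_combination r1 + ξ * r2 + q1 + (ξ * A) * h2
    exact (mul_eq_zero.1 this).resolve_left hvm
  obtain ⟨s, z, hp, hv⟩ := coords C hf hvv hvl
  obtain ⟨k, hk⟩ : ∃ k, k = f v l := ⟨_, rfl⟩
  rw [← hk] at hv hvl
  obtain ⟨z₁, hz₁, hp₁⟩ := exists_par C R F₀.one_mem
  have hX₁ := heis_mem hU hf hp₁
  have R₂ : RFrame f F₀ P l (act (heis hU l m 1 z₁) l') (act (heis hU l m 1 z₁) m) d := by
    have e := mem_uiso.1 hX₁
    have el := heis_l hU hf 1 z₁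
    refine ⟨⟨hf.three, hf.ll, by rw [e, hf.l'l'], ?_, ?_, by rw [e, hf.l'm], by rw [e, hf.mm], hf.d0⟩,
      R.rl, ?_, ?_⟩
    · have := e l l'
      rw [el] at this; rw [this, hf.ll']
    · have := e l m
      rw [el] at this; rw [this, hf.lm]
    · rw [heis_l' hU hf, one_smul]
      exact Submodule.add_mem _ (Submodule.add_mem _ R.rl' R.rm) (ratVec_smul hz₁ R.rl)
    · rw [heis_m hU hf, map_one, mul_one]
      exact Submodule.sub_mem _ R.rm (ratVec_smul (R.d_mem C) R.rl)
  obtain ⟨p, hp0, hpc⟩ := main R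
  obtain ⟨p', hp'0, hpc'⟩ := main R₂
  rw [hv, smul_left hU, mul_eq_zero, or_iff_right hvl, heis_l' hU hf] at hp0 hp'0
  rw [hd1] at hp hp₁
  have hsz : s ∈ F₀ ∧ z ∈ F₀ := by
    rcases hpc with rfl | ⟨η, hη, hη0, rfl⟩ <;> rcases hpc' with rfl | ⟨η', hη', hη'0, rfl⟩
    all_goals
      simp only [heis_l' hU hf, heis_m hU hf, add_left hU, add_right hU, sub_right hU, smul_left hU,
        smul_right hU, hf.ll, hf.ll', hf.l'l hU, hf.l'l', hf.lm, hf.l'm, hf.ml hU, hf.ml' hU, hf.mm,
        hd1, map_one, map_mul, mul_zero, mul_one, one_mul, add_zero, zero_add, sub_zero, one_smul] at hp0 hp'0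
    · exfalso
      rw [hp0] at hp'0
      simp at hp'0
    · subst hp0
      refine ⟨F₀.zero_mem, ?_⟩
      have hη1 : σ η' ≠ 0 := (map_ne_zero σ).2 hη'0
      rw [show z = -(1 : F) / σ η' - σ z₁ by field_simp; linear_combination hp'0]
      exact F₀.sub_mem (F₀.div_mem (F₀.neg_mem F₀.one_mem) (C.stable _ hη')) (C.stable _ hz₁)
    · have hs1 : s = 1 := by linear_combination hp'0
      refine ⟨hs1 ▸ F₀.one_mem, ?_⟩
      have hη1 : σ η ≠ 0 := (map_ne_zero σ).2 hη0
      rw [show z = -(1 : F) / σ η by field_simp; linear_combination hp0]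
      exact F₀.div_mem (F₀.neg_mem F₀.one_mem) (C.stable _ hη)
    · have hη1 : σ η ≠ 0 := (map_ne_zero σ).2 hη0
      have hη2 : σ η' ≠ 0 := (map_ne_zero σ).2 hη'0
      have hzF : z ∈ F₀ := by
        rw [show z = -(1 : F) / σ η by field_simp; linear_combination hp0]
        exact F₀.div_mem (F₀.neg_mem F₀.one_mem) (C.stable _ hη)
      refine ⟨?_, hzF⟩
      rw [show s = -(1 : F) / σ η' - σ z₁ - z by field_simp; linear_combination hp'0]
      exact F₀.sub_mem (F₀.sub_mem (F₀.div_mem (F₀.neg_mem F₀.one_mem) (C.stable _ hη'))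
        (C.stable _ hz₁)) hzF
  have hpX : f (act (heis hU l m s z) l') (act (heis hU l m s z) l') = 0 := by
    rw [← hd1] at hp
    rw [mem_uiso.1 (heis_mem hU hf hp), hf.l'l']
  rw [hv, utv_smul hU hpX] at hM
  rw [hv]
  rw [← hd1] at hp
  exact ratT_of_param C hno R hsz.1 hsz.2 hp hc hM

end Cfsg.Agent.MaxCl.SU3.Subfield
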