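/-
Subfield groups of odd prime index in SU_3 are maximal: an element outside gives a seed, and a seed gives an
element of the stabiliser of a point scaling the unipotent parameters irrationally, hence all transvections.
-/
import Cfsg.Agent.Lib.MaxCl.SU3.Subfield.Two
import Cfsg.Agent.Lib.MaxCl.SU3.Gen

set_option autoImplicit false
set_option maxHeartbeats 800000

namespace Cfsg.Agent.MaxCl.SU3.Subfield

open Cfsg.Agent.MaxCl Cfsg.Agent.MaxCl.Unit
open scoped MatrixGroups Matrix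

variable {ι : Type} [Fintype ι] [DecidableEq ι] {F : Type*} [Field F] [Fintype F]
variable {σ : F ≃+* F} {f : (ι → F) → (ι → F) → F} {F₀ : Subfield F} {P : GL ι F} {r : ℕ}
  {M : Subgroup (GL ι F)} {l l' m : ι → F} {d : F}

variable (C : Ctx σ f F₀ P r M)
include C

theorem exists_rframe : ∃ l l' m : ι → F, ∃ d, RFrame f F₀ P l l' m d := by
  classical
  have hU := C.unit
  haveI : Fintype F₀ := Fintype.ofFinite _
  let σ₀ : F₀ ≃+* F₀ :=
    { toFun := fun a => ⟨σ a, C.stable _ a.2⟩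
      invFun := fun a => ⟨σ a, C.stable _ a.2⟩
      left_inv := fun a => Subtype.ext (hU.involutive a)
      right_inv := fun a => Subtype.ext (hU.involutive a)
      map_mul' := fun a b => Subtype.ext (map_mul σ _ _)
      map_add' := fun a b => Subtype.ext (map_add σ _ _) }
  let em := USub.emb F₀ P
  let f₀ : (ι → F₀) → (ι → F₀) → F₀ := fun u v =>
    ⟨f (em u) (em v), C.rat _ (USub.emb_mem u) _ (USub.emb_mem v)⟩
  have hU₀ : Cfsg.Geo.IsUnitaryForm σ₀ f₀ := by
    refine ⟨fun h => ?_, fun a => Subtype.ext (hU.involutive a), fun x y v => ?_, fun c x v => ?_,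
      fun v w => ?_, fun v hv => ?_⟩
    · obtain ⟨θ, hθ, hne⟩ := C.moved
      exact hne (congrArg Subtype.val (RingEquiv.congr_fun h ⟨θ, hθ⟩))
    · apply Subtype.ext
      show f (em (x + y)) _ = f _ _ + f _ _
      simp only [em, USub.emb_add, add_left hU]
    · apply Subtype.ext
      show f (em (c • x)) _ = (c : F) * f _ _
      simp only [em, USub.emb_smul, smul_left hU]
    · apply Subtype.ext
      show f _ _ = σ (f _ _)
      rw [herm' hU]
    · have key : ∃ x, f₀ x v ≠ 0 := by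
        by_contra hno; push Not at hno
        apply hv
        have e : flinU hU (em v) = flinU hU 0 := ext_of_ratVec F₀ P fun y hy => by
          obtain ⟨u, rfl⟩ := USub.exists_emb hy
          rw [flinU_apply, flinU_apply, zero_right hU]
          exact congrArg Subtype.val (hno u)
        apply USub.emb_injective (P := P)
        show em v = _
        rw [flinU_injective hU e, USub.emb_zero]
      obtain ⟨x, hx⟩ := key
      refine ⟨⟨x, hx⟩, ⟨x, fun h => hx (Subtype.ext ?_)⟩⟩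
      exact eq_zero_symm hU (congrArg Subtype.val h)
  obtain ⟨u, -, huu, hu0⟩ := exists_iso_perp hU₀ (⊥ : Submodule F₀ (ι → F₀)) (by
    rw [finrank_bot, C.three]; omega)
  obtain ⟨z, -, hzz, hzu⟩ := exists_partner hU₀ (X := ⊥) (fun w hw => by
    rw [(Submodule.mem_bot _).1 hw, zero_right hU₀]) huu hu0
  obtain ⟨y, hy, hy0⟩ := Submodule.exists_mem_ne_zero_of_ne_bot
    (p := uperp hU₀ (Submodule.span F₀ (Set.range ![u, z]))) fun h => by
      have h1 := finrank_uperp_ge hU₀ (Submodule.span F₀ (Set.range ![u, z]))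
      have h2 : Module.finrank F₀ (Submodule.span F₀ (Set.range ![u, z])) ≤ 2 :=
        (finrank_range_le_card ![u, z]).trans_eq (Fintype.card_fin 2)
      rw [h, finrank_bot, C.three] at h1
      omega
  have hyu := hy u (Submodule.subset_span ⟨0, rfl⟩)
  have hyz := hy z (Submodule.subset_span ⟨1, rfl⟩)
  have huz : f₀ u z = 1 := by rw [← herm' hU₀ z u, hzu, map_one]
  have hyy : f₀ y y ≠ 0 := fun h => by
    have hu : u ≠ 0 := fun h0 => hu0 (h0 ▸ zero_mem _)
    obtain ⟨k, rfl⟩ := Submodule.mem_span_singleton.1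
      (dep_of_iso_orth_three hU₀ C.three.le hu huu h (eq_zero_symm hU₀ hyu))
    rw [smul_left hU₀, huz, mul_one] at hyz
    exact hy0 (by rw [hyz, zero_smul])
  refine ⟨em u, em z, em y, _, ⟨C.three, congrArg Subtype.val huu, congrArg Subtype.val hzz,
    congrArg Subtype.val huz, congrArg Subtype.val (eq_zero_symm hU₀ hyu),
    congrArg Subtype.val (eq_zero_symm hU₀ hyz), rfl, fun h => hyy (Subtype.ext h)⟩,
    USub.emb_mem u, USub.emb_mem z, USub.emb_mem y⟩

theorem simple_order : IsSimpleOrder (Subalgebra F₀ F) := by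
  haveI := Fintype.ofFinite F₀
  have e := Module.natCard_eq_pow_finrank (K := F₀) (V := F)
  rw [C.card] at e
  exact Subalgebra.isSimpleOrder_of_finrank_prime F₀ F
    ((Nat.pow_right_injective (Finite.one_lt_card (α := F₀)) e) ▸ C.prime)

/-- without a seed the transvections sit at rational points -/
theorem ratT (hno : NoSeed C.unit F₀ P M) {v : ι → F} (hvv : f v v = 0) (hv0 : v ≠ 0) {c : F}
    (hc : c + σ c = 0) (hc0 : c ≠ 0) (hM : utv C.unit v c ∈ M) : RatT σ F₀ P v c := by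
  have hU := C.unit
  obtain ⟨l, l', m, d, R⟩ := exists_rframe C
  obtain ⟨a, b, e, R', hva⟩ : ∃ a b e : ι → F, RFrame f F₀ P a b e d ∧ f v a ≠ 0 := by
    by_cases h : f v l = 0
    · refine ⟨l', l, m, R.swap C, fun h' => hv0 ?_⟩
      have e := R.frame.expand hU v
      rw [h, h', zero_smul, zero_smul, zero_add, zero_add] at e
      have h1 := hvv
      rw [e, smul_left hU, smul_right hU, R.frame.mm] at h1
      have h2 : f v m / d = 0 := by simpa [R.frame.d0] using h1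
      rw [e, h2, zero_smul]
    · exact ⟨l, l', m, R, h⟩
  by_cases hb : (2 : F) ≠ 0 ∨ ∃ a ∈ F₀, σ a = a ∧ a ≠ 0 ∧ a ≠ 1
  · exact ratT_big C hno hb R' hvv hva hc hc0 hM
  · push Not at hb
    exact ratT_two C hno hb.1 (fun x hx hxs => or_iff_not_imp_left.2 (hb.2 x hx hxs)) R' hvv hva hc hc0 hM

/-- an element outside the subfield group gives a seed -/
theorem exists_seed {g : GL ι F} (hg : g ∈ M) (hgn : g ∉ Cfsg.Geo.subfieldSubgroup F₀ P) :
    ∃ l l' m : ι → F, ∃ d, RFrame f F₀ P l l' m d ∧ ∃ a, a + σ a = 0 ∧ a ∉ F₀ ∧ utv C.unit l a ∈ M := by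
  have hU := C.unit
  by_contra hno
  have hno' : NoSeed hU F₀ P M := fun l l' m d R c hc hM => by
    by_contra hcF
    exact hno ⟨l, l', m, d, R, c, hc, hcF, hM⟩
  obtain ⟨l, l', m, d, R⟩ := exists_rframe C
  have hf := R.frame
  obtain ⟨z₁, hz₁, hp₁⟩ := exists_par C R F₀.one_mem
  have hX := heis_rat C R F₀.one_mem hz₁ hp₁
  obtain ⟨c₀, hc₀, hc₀0, hc₀s⟩ := skew_rat C
  have himg : ∀ w, f w w = 0 → w ≠ 0 → utv hU w c₀ ∈ M →
      ∃ k a, a ∈ ratVec F₀ P ∧ act g w = k • a ∧ k * σ k ∈ F₀ := by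
    intro w hww hw0 hw
    have h := M.mul_mem (M.mul_mem hg hw) (M.inv_mem hg)
    rw [conj_utv hU (C.iso hg) hww] at h
    obtain ⟨k, a, ha, e, hk⟩ := ratT C hno' ((mem_uiso.1 (C.iso hg) w w).trans hww)
      (fun h0 => hw0 (act_injective g (h0.trans (map_zero _).symm))) hc₀s hc₀0 h
    refine ⟨k, a, ha, e, ?_⟩
    have := F₀.mul_mem (F₀.inv_mem hc₀) hk
    rwa [mul_assoc c₀, inv_mul_cancel_left₀ hc₀0] at this
  obtain ⟨x₁, hx₁⟩ : ∃ x, x = act (heis hU l m 1 z₁) l' := ⟨_, rfl⟩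
  have hx₁x₁ : f x₁ x₁ = 0 := by rw [hx₁, mem_uiso.1 (heis_mem hU hf hp₁), hf.l'l']
  have hlx₁ : f l x₁ = 1 := by
    have := mem_uiso.1 (heis_mem hU hf hp₁) l l'
    rwa [heis_l hU hf, ← hx₁, hf.ll'] at this
  obtain ⟨k₁, a₁, ha₁, e₁, hk₁⟩ := himg l hf.ll (hf.l0 hU) (utv_rat C R hc₀ hc₀s)
  obtain ⟨k₂, a₂, ha₂, e₂, -⟩ := himg l' hf.l'l' ((hf.swap hU).l0 hU) (utv_rat C (R.swap C) hc₀ hc₀s)
  obtain ⟨k₃, a₃, ha₃, e₃, -⟩ := himg x₁ hx₁x₁
    (fun h0 => one_ne_zero (α := F) (by rw [← hlx₁, h0, zero_right hU])) (by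
      rw [hx₁, ← conj_utv hU (C.iso hX) hf.l'l']
      exact M.mul_mem (M.mul_mem hX (utv_rat C (R.swap C) hc₀ hc₀s)) (M.inv_mem hX))
  have hk10 : k₁ ≠ 0 := by
    rintro rfl
    exact hf.l0 hU (act_injective g (by rw [e₁, zero_smul, map_zero]))
  have hrat : ∀ (w : ι → F) (k : F) (a : ι → F), f l w = 1 → a ∈ ratVec F₀ P → act g w = k • a →
      k₁⁻¹ • act g w ∈ ratVec F₀ P := by
    intro w k a hlw ha e
    rw [e, smul_smul, ← div_eq_inv_mul]
    refine ratVec_smul ?_ ha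
    have h1 := mem_uiso.1 (C.iso hg) l w
    rw [e₁, e, hlw, smul_left hU, smul_right hU, ← mul_assoc] at h1
    have h2 : k₁ * σ k ∈ F₀ := by
      rw [eq_div_of_mul_eq (right_ne_zero_of_mul_eq_one h1) h1]
      exact F₀.div_mem F₀.one_mem (C.rat _ ha₁ _ ha)
    have h3 : k₁ * σ k / (k₁ * σ k₁) ∈ F₀ := F₀.div_mem h2 hk₁
    rw [mul_div_mul_left _ _ hk10, ← map_div₀] at h3
    have := C.stable _ h3
    rwa [hU.involutive] at this
  have h₁ : k₁⁻¹ • act g l ∈ ratVec F₀ P := by rw [e₁, inv_smul_smul₀ hk10]; exact ha₁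
  have h₂ := hrat l' k₂ a₂ hf.ll' ha₂ e₂
  have h₃ := hrat x₁ k₃ a₃ hlx₁ ha₃ e₃
  refine hgn (mem_subfieldSubgroup F₀ P hk10 fun x hx => ?_)
  have hm : m = x₁ - l' - z₁ • l := by rw [hx₁, heis_l' hU hf]; module
  rw [hf.expand hU x]
  have hmi : k₁⁻¹ • act g m ∈ ratVec F₀ P := by
    rw [hm, map_sub, map_sub, map_smul, smul_sub, smul_sub, smul_comm]
    exact Submodule.sub_mem _ (Submodule.sub_mem _ h₃ h₂) (ratVec_smul hz₁ h₁)
  rw [map_add, map_add, map_smul, map_smul, map_smul, smul_add, smul_add, smul_comm k₁⁻¹,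
    smul_comm k₁⁻¹, smul_comm k₁⁻¹]
  exact Submodule.add_mem _ (Submodule.add_mem _ (ratVec_smul (C.rat _ hx _ R.rl') h₁)
    (ratVec_smul (C.rat _ hx _ R.rl) h₂)) (ratVec_smul (F₀.div_mem (C.rat _ hx _ R.rm) (R.d_mem C)) hmi)

omit [Fintype F] in
/-- symmetrical unipotent elements multiply by adding parameters -/
theorem sym_pow (R : RFrame f F₀ P l l' m d) (h2 : (2 : F) ≠ 0) (s : F) (n : ℕ) :
    heis C.unit l m s (-(d * σ s * s) / 2) ^ n =
      heis C.unit l m ((n : F) * s) (-(d * σ ((n : F) * s) * ((n : F) * s)) / 2) := by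
  have hU := C.unit
  induction n with
  | zero => simp [heis_eq_utv hU R.frame, utv_zero hU]
  | succ n ih =>
    rw [pow_succ, ih, heis_mul hU R.frame]
    congr 1
    · push_cast; ring
    · push_cast
      simp only [map_mul, map_natCast, map_add, map_one]
      field_simp
      ring

omit [Fintype F] in
theorem par_inv (R : RFrame f F₀ P l l' m d) {z : F} (hp : Par σ d 1 z) : z ≠ 0 ∧ Par σ d z⁻¹ z⁻¹ := by
  have hz : z ≠ 0 := fun h => R.frame.d0 (by
    unfold Par at hp; rw [h, map_zero, map_one] at hp; linear_combination hp)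
  refine ⟨hz, ?_⟩
  unfold Par at hp ⊢
  rw [map_inv₀]
  field_simp [(map_ne_zero σ).2 hz]
  rw [map_one] at hp
  linear_combination hp

/-- an element interchanging the two points of the frame -/
theorem swap_elt (R : RFrame f F₀ P l l' m d) {z : F} (hp : Par σ d 1 z)
    (hy : heis C.unit l' m 1 z ∈ M) (hx : heis C.unit l m z⁻¹ z⁻¹ ∈ M) (hz : z ≠ 0) :
    ∃ G ∈ M, act G l = z • l' ∧ act G m = -(σ z / z) • m - d • l' := by
  have hU := C.unit
  have hf := R.frame
  have hf' := hf.swap hU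
  have hσz : σ z ≠ 0 := (map_ne_zero σ).2 hz
  refine ⟨(heis hU l m z⁻¹ z⁻¹)⁻¹ * heis hU l' m 1 z, M.mul_mem (M.inv_mem hx) hy, ?_, ?_⟩ <;>
    apply act_injective (heis hU l m z⁻¹ z⁻¹)
  · rw [← act_mul, mul_inv_cancel_left, map_smul, heis_l' hU hf' 1 z, heis_l' hU hf, smul_add, smul_add,
      smul_smul, smul_smul, mul_inv_cancel₀ hz]
    simp only [one_smul]
    abel
  · rw [← act_mul, mul_inv_cancel_left, heis_m hU hf' 1 z, map_sub, map_smul, map_smul, heis_m hU hf,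
      heis_l' hU hf, map_one, mul_one, map_inv₀]
    unfold Par at hp
    rw [map_one] at hp
    match_scalars <;> field_simp <;> (first | ring1 | linear_combination hp | linear_combination -hp)

/-- from a seed, an element of the point stabiliser scaling the unipotent parameters irrationally -/
theorem exists_scaling (hsl : M ≤ Cfsg.Geo.specialLinear ι F) (R : RFrame f F₀ P l l' m d) {a : F}
    (ha : a + σ a = 0) (haF : a ∉ F₀) (hM : utv C.unit l a ∈ M) :
    ∃ l l' m : ι → F, ∃ d, RFrame f F₀ P l l' m d ∧ ∃ g ∈ M, ∃ μ μ' b : F,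
      act g l = μ • l ∧ act g m = μ' • m + b • l ∧ σ (μ / μ') ∉ F₀ := by
  have hU := C.unit
  obtain ⟨c₀, hc₀, hc₀0, hc₀s⟩ := skew_rat C
  have hf := R.frame
  by_cases h2 : (2 : F) = 0
  · -- even characteristic
    obtain ⟨K, ρ, hρu, hρl, hρk⟩ := exists_plane hU hf C.iso
    obtain ⟨g₀, hg₀, hg₀'⟩ := hρl c₀ hc₀s (utv_rat C (R.swap C) hc₀ hc₀s)
    obtain ⟨D, ⟨k, hk⟩, hD10, hD00⟩ := SLTwo.exists_borel h2 ρ.range hc₀0
      (hρu c₀ hc₀s (utv_rat C R hc₀ hc₀s)) hg₀ (by rw [hg₀']; exact hc₀0) (hρu a ha hM)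
      (fun h => haF (h ▸ F₀.zero_mem))
    obtain ⟨hk1, hk2, hk3, -⟩ := hρk k
    rw [hk, hD10, zero_smul, add_zero] at hk3
    refine ⟨l, l', m, d, R, k.1, hk1, D 0 0, 1, 0, hk3, by rw [hk2, one_smul, zero_smul, add_zero],
      fun h => haF ?_⟩
    rw [div_one] at h
    have := C.stable _ h
    rw [hU.involutive] at this
    exact hD00 ▸ F₀.mul_mem (F₀.mul_mem this this) hc₀
  -- odd characteristic
  refine ⟨l', l, m, d, R.swap C, ?_⟩
  suffices key : ∀ {l l' m : ι → F}, RFrame f F₀ P l l' m d → utv hU l' a ∈ M →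
      ∃ g ∈ M, ∃ μ μ' b : F, act g l = μ • l ∧ act g m = μ' • m + b • l ∧ σ (μ / μ') ∉ F₀ from
    key (R.swap C) hM
  intro l l' m R hM
  have hf := R.frame
  have hf' := hf.swap hU
  have hd := hf.d0
  obtain ⟨e₁, he₁, he₁1⟩ := trace_one C
  have hdF := R.d_mem C
  -- one of two parameters gives an irrational ratio
  obtain ⟨e, he, hed, hirr⟩ : ∃ e ∈ F₀, e + σ e = d ∧ (a - e) * σ (a - e) ∉ F₀ := by
    by_contra hall; push Not at hall
    have hes : d * e₁ + σ (d * e₁) = d := by rw [map_mul, hf.σd hU]; linear_combination d * he₁1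
    have h1 := hall (d * e₁) (F₀.mul_mem hdF he₁) hes
    have h1' := hall (d * e₁ + c₀) (F₀.add_mem (F₀.mul_mem hdF he₁) hc₀)
      (by rw [map_add]; linear_combination hes + hc₀s)
    have h3 : (a - (d * e₁ + c₀)) * σ (a - (d * e₁ + c₀)) - (a - d * e₁) * σ (a - d * e₁) ∈ F₀ :=
      F₀.sub_mem h1' h1
    have h4 : c₀ * (2 * a) ∈ F₀ := by
      rw [show c₀ * (2 * a) = ((a - (d * e₁ + c₀)) * σ (a - (d * e₁ + c₀)) - (a - d * e₁) * σ (a - d * e₁)) +
          c₀ * (d * e₁ - σ (d * e₁)) + c₀ * c₀ by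
        rw [map_sub, map_sub, map_add, eq_neg_of_add_eq_zero_right ha, eq_neg_of_add_eq_zero_right hc₀s]; ring]
      exact F₀.add_mem (F₀.add_mem h3 (F₀.mul_mem hc₀ (F₀.sub_mem (F₀.mul_mem hdF he₁)
        (C.stable _ (F₀.mul_mem hdF he₁))))) (F₀.mul_mem hc₀ hc₀)
    refine haF ?_
    have h2F : (2 : F) ∈ F₀ := by
      rw [← one_add_one_eq_two]; exact F₀.add_mem F₀.one_mem F₀.one_mem
    rw [show a = c₀ * (2 * a) / (c₀ * 2) by field_simp]
    exact F₀.div_mem h4 (F₀.mul_mem hc₀ h2F)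
  -- the rational element
  have hp₀ : Par σ d 1 (-e) := by unfold Par; rw [map_one, map_neg]; linear_combination -hed
  obtain ⟨hz₀, hp₀'⟩ := par_inv C R hp₀
  have he0 : e ≠ 0 := neg_ne_zero.1 hz₀
  obtain ⟨G₀, hG₀, hG₀l, hG₀m⟩ := swap_elt C R hp₀ (heis_rat C (R.swap C) F₀.one_mem (F₀.neg_mem he) hp₀)
    (heis_rat C R (F₀.inv_mem (F₀.neg_mem he)) (F₀.inv_mem (F₀.neg_mem he)) hp₀') hz₀
  -- the irrational one
  obtain ⟨z, hzdef⟩ : ∃ z, z = a - e := ⟨_, rfl⟩
  rw [← hzdef] at hirr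
  have hp : Par σ d 1 z := by
    unfold Par; rw [hzdef, map_sub, map_one]; linear_combination ha - hed
  have hz : z ≠ 0 := fun h => hirr (by rw [h, zero_mul]; exact F₀.zero_mem)
  have hσz : σ z ≠ 0 := (map_ne_zero σ).2 hz
  have hp' := (par_inv C R hp).2
  have hy : heis hU l' m 1 z ∈ M := by
    have h := M.mul_mem (heis_rat C (R.swap C) F₀.one_mem (F₀.neg_mem he) hp₀) hM
    rw [← heis_eq_utv hU hf', heis_mul hU hf', add_zero, mul_zero, sub_zero, neg_add_eq_sub, ← hzdef] at h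
    exact h
  have hx : heis hU l m z⁻¹ z⁻¹ ∈ M := by
    obtain ⟨X, hX⟩ : ∃ X, X = heis hU l m z⁻¹ z⁻¹ := ⟨_, rfl⟩
    have hXf : X ∈ uiso f := hX ▸ heis_mem hU hf hp'
    have ht : utv hU (act X l') (z * σ z * c₀) ∈ M := by
      have h := M.mul_mem (M.mul_mem hy (utv_rat C R hc₀ hc₀s)) (M.inv_mem hy)
      rw [conj_utv hU (C.iso hy) hf.ll, show act (heis hU l' m 1 z) l = z • act X l' by
        rw [heis_l' hU hf', hX, heis_l' hU hf, smul_add, smul_add, smul_smul, smul_smul, mul_inv_cancel₀ hz]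
        simp only [one_smul]
        abel, utv_smul hU (by rw [mem_uiso.1 hXf, hf.l'l'])] at h
      exact h
    let M' : Subgroup (GL ι F) := M.comap (MulAut.conj X).toMonoidHom
    have hM' : ∀ {g}, g ∈ M' ↔ X * g * X⁻¹ ∈ M := Iff.rfl
    have hM'f : M' ≤ uiso f := fun g hg => by
      have := mul_mem (mul_mem (inv_mem hXf) (C.iso (hM'.1 hg))) hXf
      rwa [show X⁻¹ * (X * g * X⁻¹) * X = g by group] at this
    obtain ⟨K, ρ, hρu, hρl, hρk⟩ := exists_plane hU hf hM'f
    obtain ⟨g₀, hg₀, hg₀'⟩ := hρl (z * σ z * c₀)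
      (by simp only [map_mul, hU.involutive]; linear_combination (z * σ z) * hc₀s)
      (hM'.2 (by rw [conj_utv hU hXf hf.l'l']; exact ht))
    obtain ⟨k, hk⟩ := SLTwo.neg_one_mem h2 ρ.range hc₀0 (hρu c₀ hc₀s (hM'.2 (by
        rw [conj_utv hU hXf hf.ll, hX, heis_l hU hf]; exact utv_rat C R hc₀ hc₀s))) hg₀
      (by rw [hg₀']; exact mul_ne_zero (mul_ne_zero hz hσz) hc₀0)
    obtain ⟨hk1, hk2, hk3, hk4⟩ := hρk k
    rw [hk] at hk3 hk4
    have kl : act k.1 l = -l := by rw [hk3]; simp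
    have kl' : act k.1 l' = -l' := by rw [hk4]; simp
    -- it is rational
    have hkM : k.1 ∈ M := by
      refine C.rat_mem _ (hM'f hk1) ?_ fun x hx => ?_
      · have h := hsl (hM'.1 hk1)
        rw [Cfsg.Geo.specialLinear, MonoidHom.mem_ker, map_mul, map_mul, map_inv, mul_inv_cancel_comm] at h
        rw [Cfsg.Geo.specialLinear, MonoidHom.mem_ker]
        exact h
      · rw [hf.expand hU x]
        simp only [map_add, map_smul, kl, kl', hk2]
        exact Submodule.add_mem _ (Submodule.add_mem _ (ratVec_smul (C.rat _ hx _ R.rl') (Submodule.neg_mem _ R.rl))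
          (ratVec_smul (C.rat _ hx _ R.rl) (Submodule.neg_mem _ R.rl')))
          (ratVec_smul (F₀.div_mem (C.rat _ hx _ R.rm) hdF) R.rm)
    have hkk : ∀ s w, k.1 * heis hU l m s w = heis hU l m (-s) w * k.1 := by
      intro s w
      refine hf.gl_ext hU ?_ ?_ ?_
      · simp only [act_mul, heis_l hU hf, kl, map_neg]
      · simp only [act_mul, heis_l' hU hf, kl, kl', map_neg, map_add, map_smul, hk2]
        module
      · simp only [act_mul, heis_m hU hf, kl, map_sub, map_smul, hk2, map_neg]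
        module
    have hD : heis hU l m (2 * z⁻¹) (-(d * σ (2 * z⁻¹) * (2 * z⁻¹)) / 2) ∈ M := by
      have h := M.mul_mem (hM'.1 hk1) (M.inv_mem hkM)
      have e1 : X⁻¹ = heis hU l m (-z⁻¹) (σ z⁻¹) := by
        refine inv_eq_of_mul_eq_one_right ?_
        rw [hX, heis_mul hU hf, add_neg_cancel, heis_eq_utv hU hf]
        unfold Par at hp'
        rw [show z⁻¹ + σ z⁻¹ - d * σ z⁻¹ * -z⁻¹ = 0 by linear_combination hp', utv_zero hU]
      rw [mul_assoc X, e1, hkk, ← mul_assoc, mul_inv_cancel_right, neg_neg, hX, heis_mul hU hf] at h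
      convert h using 2
      · ring
      · unfold Par at hp'
        rw [map_mul, map_ofNat]
        generalize z⁻¹ = w at hp' ⊢
        field_simp
        linear_combination -hp'
    -- halving and correcting the centre
    obtain ⟨n, hn⟩ : ∃ n : ℕ, (n : F) * 2 = 1 := by
      obtain ⟨p, hp⟩ := CharP.exists F
      obtain ⟨-, hpp, -⟩ := FiniteField.card F p
      obtain ⟨j, hj⟩ := hpp.odd_of_ne_two (fun h => h2 (by
        subst h
        exact_mod_cast CharP.cast_eq_zero F 2))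
      refine ⟨j + 1, ?_⟩
      have := CharP.cast_eq_zero F p
      rw [hj] at this
      push_cast at this ⊢
      linear_combination this
    have hsym : heis hU l m z⁻¹ (-(d * σ z⁻¹ * z⁻¹) / 2) ∈ M := by
      have h := M.pow_mem hD n
      rw [sym_pow C R h2, ← mul_assoc, hn, one_mul] at h
      exact h
    have hδ : utv hU l ((z⁻¹ - σ z⁻¹) / 2) ∈ M := by
      have h := utv_comm C R hsym (t := (2 * d)⁻¹) (F₀.inv_mem (F₀.mul_mem (by
        rw [← one_add_one_eq_two]; exact F₀.add_mem F₀.one_mem F₀.one_mem) hdF))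
      convert h using 2
      rw [map_inv₀ σ (2 * d), map_mul, map_ofNat, hf.σd hU]
      field_simp
    have h := M.mul_mem hsym hδ
    rw [← heis_eq_utv hU hf, heis_mul hU hf, add_zero, mul_zero, sub_zero] at h
    convert h using 2
    generalize z⁻¹ = w at hp' ⊢
    unfold Par at hp'
    field_simp
    linear_combination hp'
  obtain ⟨G₁, hG₁, hG₁l, hG₁m⟩ := swap_elt C R hp hy hx hz
  have hσz₀ : σ (-e) ≠ 0 := (map_ne_zero σ).2 hz₀
  have i₁ : act G₀⁻¹ l' = (-e)⁻¹ • l := by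
    apply act_injective G₀
    rw [act_act_inv, map_smul, hG₀l, inv_smul_smul₀ hz₀]
  have i₂ : act G₀⁻¹ m = -((-e) / σ (-e)) • m - (d / σ (-e)) • l := by
    apply act_injective G₀
    rw [act_act_inv, map_sub, map_smul, map_smul, hG₀m, hG₀l]
    match_scalars <;> field_simp <;> ring
  refine ⟨G₀⁻¹ * G₁, M.mul_mem (M.inv_mem hG₀) hG₁, z * (-e)⁻¹, (σ z / z) * ((-e) / σ (-e)),
    (σ z / z) * (d / σ (-e)) - d * (-e)⁻¹, ?_, ?_, fun h => hirr ?_⟩
  · rw [act_mul, hG₁l, map_smul, i₁, smul_smul]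
  · rw [act_mul, hG₁m, map_sub, map_smul, map_smul, i₁, i₂]
    module
  · have h1 := C.stable _ h
    rw [hU.involutive] at h1
    have heF := F₀.neg_mem he
    obtain ⟨Q, hQ⟩ : ∃ Q, Q = z * z / σ z := ⟨_, rfl⟩
    have hQF : Q ∈ F₀ := by
      have := F₀.mul_mem h1 (F₀.div_mem (F₀.mul_mem heF heF) (C.stable _ heF))
      convert this using 1
      rw [hQ]
      field_simp
    have := F₀.mul_mem hQF (C.stable _ hQF)
    convert this using 1
    rw [hQ, map_div₀, map_mul, hU.involutive]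
    field_simp

/-- a scaling element gives all transvections -/
theorem utv_all (R : RFrame f F₀ P l l' m d) {g : GL ι F} (hg : g ∈ M) {μ μ' b : F}
    (hgl : act g l = μ • l) (hgm : act g m = μ' • m + b • l) (hν : σ (μ / μ') ∉ F₀)
    (v : ι → F) (c : F) (hvv : f v v = 0) (hc : c + σ c = 0) : utv C.unit v c ∈ M := by
  have hU := C.unit
  have hf := R.frame
  obtain ⟨ν, hνdef⟩ : ∃ ν, ν = σ (μ / μ') := ⟨_, rfl⟩
  rw [← hνdef] at hν
  let B : F → Prop := fun s => ∃ z, Par σ d s z ∧ heis hU l m s z ∈ M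
  have hBrat : ∀ s ∈ F₀, B s := fun s hs => by
    obtain ⟨z, hz, hp⟩ := exists_par C R hs
    exact ⟨z, hp, heis_rat C R hs hz hp⟩
  have hBadd : ∀ s t, B s → B t → B (s + t) := by
    rintro s t ⟨z, hp, h⟩ ⟨z', hp', h'⟩
    refine ⟨z + z' - d * σ s * t, ?_, by rw [← heis_mul hU hf]; exact M.mul_mem h h'⟩
    unfold Par at hp hp' ⊢
    simp only [map_add, map_sub, map_mul, hU.involutive, hf.σd hU]
    linear_combination hp + hp'
  have hBν : ∀ s, B s → B (ν * s) := by
    rintro s ⟨z, hp, h⟩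
    obtain ⟨z', hp', e⟩ := conj_heis hU hf (C.iso hg) hgl hgm hp
    exact ⟨z', hνdef ▸ hp', by rw [hνdef, ← e]; exact M.mul_mem (M.mul_mem hg h) (M.inv_mem hg)⟩
  have hB : ∀ s, B s := by
    haveI := simple_order C
    have htop : Algebra.adjoin F₀ {ν} = ⊤ := by
      refine (IsSimpleOrder.eq_bot_or_eq_top _).resolve_left fun h => hν ?_
      have := Algebra.subset_adjoin (R := F₀) (s := {ν}) (Set.mem_singleton ν)
      rw [h, SetLike.mem_coe, Algebra.mem_bot] at this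
      obtain ⟨k, hk⟩ := this
      exact hk ▸ k.2
    intro s
    have hs : s ∈ Algebra.adjoin F₀ {ν} := htop ▸ Algebra.mem_top
    rw [Algebra.adjoin_singleton_eq_range_aeval] at hs
    obtain ⟨Q, rfl⟩ := hs
    induction Q using Polynomial.induction_on' with
    | add p q hp hq => simp only [map_add]; exact hBadd _ _ hp hq
    | monomial n k =>
      simp only [AlgHom.toRingHom_eq_coe, RingHom.coe_coe, Polynomial.aeval_monomial]
      induction n with
      | zero => rw [pow_zero, mul_one]; exact hBrat _ k.2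
      | succ n ih =>
        have := hBν _ ih
        rwa [show ν * (algebraMap F₀ F k * ν ^ n) = algebraMap F₀ F k * ν ^ (n + 1) by ring] at this
  have hA : ∀ c, c + σ c = 0 → utv hU l c ∈ M := by
    intro c hc
    obtain ⟨e, he, he1⟩ := trace_one C
    obtain ⟨z, hp, h⟩ := hB (c * e / d)
    have h1 := utv_comm C R h F₀.one_mem
    convert h1 using 2
    rw [map_one, mul_one, one_mul, map_div₀, map_mul, hf.σd hU, eq_neg_of_add_eq_zero_right hc]
    field_simp [hf.d0]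
    linear_combination -c * he1
  have hU1 : ∀ s z, Par σ d s z → heis hU l m s z ∈ M := by
    intro s z hp
    obtain ⟨z', hp', h⟩ := hB s
    have h2 := M.mul_mem h (hA (z - z') (by
      unfold Par at hp hp'; rw [map_sub]; linear_combination hp - hp'))
    rw [← heis_eq_utv hU hf, heis_mul hU hf, add_zero, mul_zero, sub_zero, add_sub_cancel] at h2
    exact h2
  have hA' : ∀ c, c + σ c = 0 → utv hU l' c ∈ M := by
    intro c hc
    obtain ⟨z, hz, hp⟩ := exists_par C R F₀.one_mem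
    obtain ⟨hz0, hp'⟩ := par_inv C R hp
    obtain ⟨G, hG, hGl, -⟩ := swap_elt C R hp (heis_rat C (R.swap C) F₀.one_mem hz hp) (hU1 _ _ hp') hz0
    have hn0 : z * σ z ≠ 0 := mul_ne_zero hz0 ((map_ne_zero σ).2 hz0)
    have h := M.mul_mem (M.mul_mem hG (hA (c / (z * σ z)) (by
      simp only [map_div₀, map_mul, hU.involutive, mul_comm (σ z) z]
      rw [← add_div, hc, zero_div]))) (M.inv_mem hG)
    rwa [conj_utv hU (C.iso hG) hf.ll, hGl, utv_smul hU hf.l'l', mul_div_cancel₀ _ hn0] at h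
  by_cases hvl : f v l = 0
  · obtain ⟨k, rfl⟩ := Submodule.mem_span_singleton.1
      (dep_of_iso_orth_three hU hf.three.le (hf.l0 hU) hf.ll hvv (eq_zero_symm hU hvl))
    rw [utv_smul hU hf.ll]
    exact hA _ (by simp only [map_mul, hU.involutive]; linear_combination (k * σ k) * hc)
  obtain ⟨s, z, hp, hv⟩ := coords C hf hvv hvl
  generalize f v l = k at hv
  have hX := hU1 s z hp
  rw [hv, utv_smul hU (by rw [mem_uiso.1 (C.iso hX), hf.l'l']), ← conj_utv hU (C.iso hX) hf.l'l']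
  exact M.mul_mem (M.mul_mem hX (hA' _ (by
    simp only [map_mul, hU.involutive]; linear_combination (k * σ k) * hc))) (M.inv_mem hX)

end Cfsg.Agent.MaxCl.SU3.Subfield

namespace Cfsg.Agent.MaxCl.SU3

open Cfsg Cfsg.Agent.MaxCl Cfsg.Agent.MaxCl.Unit

/-- the `q`-power map moves a subfield of odd index -/
theorem Subfield.exists_moved_of_odd {F : Type*} [Field F] [Fintype F] (q : ℕ) (hF : Fintype.card F = q ^ 2)
    (F₀ : _root_.Subfield F) (r : ℕ) (hro : Odd r) (hcard : Fintype.card F = Nat.card F₀ ^ r) {τ : F ≃+* F}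
    (hτ : ∀ x, τ x = x ^ q) : ∃ θ ∈ F₀, τ θ ≠ θ := by
  by_contra hno
  push Not at hno
  haveI : Fintype F₀ := Fintype.ofFinite _
  obtain ⟨p, hp⟩ := CharP.exists F
  haveI : CharP F₀ p := (RingHom.charP_iff (F₀.subtype) Subtype.val_injective p).2 hp
  obtain ⟨a, hpp, ha⟩ := FiniteField.card F₀ p
  obtain ⟨k, -, hk⟩ := FiniteField.card F p
  -- every element of `F₀` is fixed, so its order is at most `q`
  have hq2 : 2 ≤ q := by
    rcases Nat.lt_or_ge q 2 with h | h
    · have := Fintype.one_lt_card (α := F)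
      rw [hF] at this
      interval_cases q <;> simp at this
    · exact h
  have hfix : ∀ x : F₀, x ^ q = x := fun x => Subtype.ext (by
    rw [SubmonoidClass.coe_pow, ← hτ]; exact hno _ x.2)
  obtain ⟨g, hg⟩ := IsCyclic.exists_generator (α := F₀ˣ)
  have hg1 : g ^ (q - 1) = 1 := by
    have : g ^ q = g := Units.ext (hfix g)
    rw [← mul_left_inj g, ← pow_succ, Nat.sub_add_cancel (by omega), this, one_mul]
  have hdvd := orderOf_dvd_of_pow_eq_one hg1
  rw [orderOf_eq_card_of_forall_mem_zpowers hg, Nat.card_units, Nat.card_eq_fintype_card, ha] at hdvd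
  have hpa : (p : ℕ) ^ (k : ℕ) = p ^ ((a : ℕ) * r) := by
    rw [← hk, hcard, Nat.card_eq_fintype_card, ha, pow_mul]
  have hka := Nat.pow_right_injective hpp.two_le hpa
  obtain ⟨j, -, hj⟩ := (Nat.dvd_prime_pow hpp).1 (hk ▸ hF ▸ dvd_pow_self q two_ne_zero)
  have hkj : (k : ℕ) = j * 2 := Nat.pow_right_injective hpp.two_le (show (p : ℕ) ^ (k : ℕ) = p ^ (j * 2) by
    rw [← hk, hF, hj, pow_mul])
  rw [hj] at hdvd
  have haj : (a : ℕ) ∣ j := by
    have h1 := Nat.pow_sub_one_gcd_pow_sub_one p (a : ℕ) j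
    rw [Nat.gcd_eq_left hdvd] at h1
    have h2 : p ^ (a : ℕ) = p ^ Nat.gcd a j := by
      have := Nat.one_le_pow (a : ℕ) p hpp.pos
      have := Nat.one_le_pow (Nat.gcd (a : ℕ) j) p hpp.pos
      omega
    rw [Nat.pow_right_injective hpp.two_le h2]
    exact Nat.gcd_dvd_right _ _
  obtain ⟨m, hm⟩ := haj
  have hr2 : r = m * 2 := Nat.eq_of_mul_eq_mul_left a.pos (by rw [← hka, hkj, hm]; ring)
  exact (Nat.not_even_iff_odd.2 hro) ⟨m, by omega⟩

/-- the subfield groups of odd prime index are maximal in SU_3 -/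
theorem subfield_maximal {F : Type*} [Field F] [Fintype F] (q : ℕ) (hF : Fintype.card F = q ^ 2) (hq : 3 ≤ q) (F₀ : Subfield F) (r : ℕ) (hr : r.Prime) (hro : Odd r) (hcard : Fintype.card F = Nat.card F₀ ^ r) (P : Matrix.GeneralLinearGroup (Fin 3) F) (hP : Cfsg.Geo.IsFormRationalStructure (Cfsg.hermForm 3 F q) F₀ 1 P) : Cfsg.Geo.IsMaximalIn (Cfsg.GU 3 F q ⊓ Cfsg.Geo.specialLinear (Fin 3) F) (Cfsg.Geo.subfieldSubgroup F₀ P ⊓ (Cfsg.GU 3 F q ⊓ Cfsg.Geo.specialLinear (Fin 3) F)) := by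
  classical
  obtain ⟨τ, hτ, hf⟩ := hermForm_isUnitary 3 q hF
  have hgen := su_le_of_utv_three q hF hq hτ hf
  set f := Cfsg.hermForm 3 F q
  change Cfsg.Geo.IsMaximalIn (uiso f ⊓ _) (_ ⊓ (uiso f ⊓ _))
  have hst : ∀ a ∈ F₀, τ a ∈ F₀ := fun a ha => by rw [hτ]; exact pow_mem ha q
  have hmov : ∃ θ ∈ F₀, τ θ ≠ θ := Subfield.exists_moved_of_odd q hF F₀ r hro hcard hτ
  have hcard' : Nat.card F = Nat.card F₀ ^ r := by rw [Nat.card_eq_fintype_card, hcard]
  have hrat : ∀ x ∈ ratVec F₀ P, ∀ y ∈ ratVec F₀ P, f x y ∈ F₀ := by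
    rintro _ ⟨u, hu, rfl⟩ _ ⟨v, hv, rfl⟩
    have := hP u v hu hv
    rwa [one_mul, ← Cfsg.Agent.MaxCl.act_apply, ← Cfsg.Agent.MaxCl.act_apply] at this
  have mk : ∀ M : Subgroup (GL (Fin 3) F),
      Cfsg.Geo.subfieldSubgroup F₀ P ⊓ (uiso f ⊓ Cfsg.Geo.specialLinear (Fin 3) F) ≤ M → M ≤ uiso f →
      Subfield.Ctx τ f F₀ P r M := fun M h hi =>
    ⟨hf, Fintype.card_fin 3, hrat, hst, hmov, hr, hro, hcard', hi, fun g hg hd hx =>
      h ⟨mem_subfieldSubgroup F₀ P one_ne_zero fun x hx' => by rw [inv_one, one_smul]; exact hx x hx', hg, hd⟩⟩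
  have hlt : Cfsg.Geo.subfieldSubgroup F₀ P ⊓ (uiso f ⊓ Cfsg.Geo.specialLinear (Fin 3) F) <
      uiso f ⊓ Cfsg.Geo.specialLinear (Fin 3) F := by
    refine lt_of_le_of_ne inf_le_right fun heq => ?_
    have C := mk (uiso f ⊓ Cfsg.Geo.specialLinear (Fin 3) F) inf_le_right inf_le_left
    obtain ⟨l, l', m, d, R⟩ := Subfield.exists_rframe C
    have hR := R.frame
    obtain ⟨c, hcF, hcs⟩ : ∃ c, c ∉ F₀ ∧ c + τ c = 0 := by
      by_contra h
      obtain ⟨z, hz⟩ : ∃ z, z ∉ F₀ := by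
        by_contra h'; push Not at h'
        have e : Nat.card F₀ = Nat.card F := Nat.card_congr (Equiv.subtypeUnivEquiv h')
        rw [hcard'] at e
        have h2 : Nat.card F₀ ^ 1 < Nat.card F₀ ^ r := Nat.pow_lt_pow_right Finite.one_lt_card hr.one_lt
        rw [pow_one] at h2
        omega
      refine hz (Subfield.mem_of_two_traces C (y := -τ z) fun s _ => ?_)
      by_contra h'
      exact h ⟨_, h', by simp only [map_add, map_mul, map_neg, hf.involutive]; ring⟩
    have hmem : utv hf l c ∈ uiso f ⊓ Cfsg.Geo.specialLinear (Fin 3) F :=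
      ⟨utv_mem hf hR.ll hcs, det_ptv hf (by rw [smul_right hf, hR.ll, mul_zero])⟩
    obtain ⟨γ, hγ⟩ := exists_of_mem_subfieldSubgroup F₀ P ((inf_eq_right.1 heq) hmem)
    obtain ⟨y, hy, ey⟩ := hγ l R.rl
    obtain ⟨y', hy', ey'⟩ := hγ l' R.rl'
    rw [act_utv hf hR.ll, hR.ll, mul_zero, zero_smul, add_zero] at ey
    rw [act_utv hf hR.ll, hR.l'l hf, mul_one] at ey'
    have e1 := congrArg (fun x => f x l') ey
    have e2 := congrArg (fun x => f x l') ey'
    simp only [add_left hf, smul_left hf, hR.ll', hR.l'l', mul_one, zero_add] at e1 e2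
    have hγF : γ ∈ F₀ := by
      rw [eq_div_of_mul_eq (right_ne_zero_of_mul_eq_one e1.symm) e1.symm]
      exact F₀.div_mem F₀.one_mem (hrat y hy l' R.rl')
    exact hcF (e2 ▸ F₀.mul_mem hγF (hrat y' hy' l' R.rl'))
  refine ⟨hlt, fun M hM1 hM2 => ?_⟩
  by_cases hsub : M ≤ Cfsg.Geo.subfieldSubgroup F₀ P
  · exact Or.inl (le_antisymm (le_inf hsub hM2) hM1)
  right
  obtain ⟨g, hg, hgn⟩ := SetLike.not_le_iff_exists.1 hsub
  have C := mk M hM1 (hM2.trans inf_le_left)
  obtain ⟨l₀, l₀', m₀, d₀, R₀, a, ha, haF, hMa⟩ := Subfield.exists_seed C hg hgn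
  obtain ⟨l, l', m, d, R, k, hk, μ, μ', b, hkl, hkm, hν⟩ :=
    Subfield.exists_scaling C (hM2.trans inf_le_right) R₀ ha haF hMa
  exact le_antisymm hM2 (hgen M fun u c hu hc => Subfield.utv_all C R hk hkl hkm hν u c hu hc)

end Cfsg.Agent.MaxCl.SU3
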